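import Cfsg.Agent.H19.Dm0
import Cfsg.Agent.H19.Cm0

/-! Part A5 of S3330: an index two subgroup missing `t` satisfies the `A₈` hypotheses. -/

set_option autoImplicit false
set_option synthInstance.maxSize 4000

namespace H06.Dm
open Equiv Subgroup H19.Dm

variable {G : Type*} [Group G] {F : P35 →* G} {s : G}

theorem exChi (H : Subgroup G) (hi : H.index = 2) : ∃ χ : G →* ℤˣ, ∀ g, χ g = 1 ↔ g ∈ H := by
  classical
  refine ⟨MonoidHom.mk' (fun g => if g ∈ H then 1 else -1) fun a b => ?_, fun g => ?_⟩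
  · have := mul_mem_iff_of_index_two hi (a := a) (b := b)
    by_cases ha : a ∈ H <;> by_cases hb : b ∈ H <;> simp_all
  · by_cases hg : g ∈ H <;> simp [hg]

theorem k1 : u = (1, swap 1 4 * swap 0 3) * t * (1, swap 1 4 * swap 0 3)⁻¹ * t ∧
    (H19.Cm.I : P35) = w * t * t * u * t ∧ (H19.Cm.I : P35) = u * t * (w * t) * t ∧
    (H19.Cm.U : P35) = u ∧ (H19.Cm.U' : P35) = w * t := by decide +kernel

theorem memL (h : Hy F s) (ca : CA F s) (H : Subgroup G) (hi : H.index = 2) (ht : F t ∉ H) (x : P35) :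
    F x ∈ H ↔ x ∈ H19.Cm.L := by
  obtain ⟨χ, hχ⟩ := exChi H hi
  have c : ∀ a : ℤˣ, a ≠ 1 → a = -1 := fun a ha => (Int.units_eq_one_or a).resolve_left ha
  have t1 : χ (F t) = -1 := c _ fun e => ht ((hχ _).1 e)
  have u1 : χ (F u) = 1 := by
    rw [k1.1, map_mul F, map_mul F, map_mul F, map_mul χ, map_mul χ, map_mul χ, map_inv F, map_inv χ, t1,
      mul_comm (χ (F _)) (-1), mul_assoc (-1), mul_inv_cancel]; simp
  have w1 : χ (F w) = -1 := by
    have e := congrArg χ ca
    rw [map_mul χ, map_mul χ, u1, mul_one, ← map_mul χ, h.s2, map_one, map_mul F, map_mul χ, t1] at e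
    rcases Int.units_eq_one_or (χ (F w)) with r | r
    · rw [r] at e; simp at e
    · exact r
  have sj : ∀ {X : Type} [Group X] (ψ : X →* ℤˣ) (y : X), ψ y = -1 → Function.Surjective ψ := by
    intro X _ ψ y hy a
    rcases Int.units_eq_one_or a with rfl | rfl
    · exact ⟨1, map_one _⟩
    · exact ⟨y, hy⟩
  have e1 := Perm.eq_sign_of_surjective_hom (sj (χ.comp (F.comp (MonoidHom.inl _ _))) (swap 0 1) w1)
  have e2 := Perm.eq_sign_of_surjective_hom (sj (χ.comp (F.comp (MonoidHom.inr _ _))) (swap 3 4) t1)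
  have e3 : χ (F x) = Perm.sign x.1 * Perm.sign x.2 := by
    rw [← e1, ← e2]
    show _ = χ (F (x.1, 1)) * χ (F (1, x.2))
    rw [← map_mul, ← map_mul]; simp
  rw [← hχ, e3]; rfl

theorem a5' [Finite G] (h : Hy F s) (ca : CA F s) (H : Subgroup G) (hi : H.index = 2) (ht : F t ∉ H) (hs : s ∈ H) :
    ∃ (f : H19.Cm.L →* H) (s1 : H), H19.Cm.Hy f s1 := by
  have m := memL h ca H hi ht
  let f : H19.Cm.L →* H := (F.comp H19.Cm.L.subtype).codRestrict H fun x => (m _).2 x.2
  have fv : ∀ x, (f x : G) = F x := fun _ => rfl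
  have lift : ∀ (g : H) (x : P35), F x = g → ∃ y, f y = g := fun g x e =>
    ⟨⟨x, (m x).1 (e ▸ g.2)⟩, Subtype.ext e⟩
  have dm : (H19.Cm.D f).map H.subtype = D F := by
    rw [H19.Cm.D, MonoidHom.map_closure, Set.image_pair]; rfl
  have dc : H19.Cm.D f = (D F).comap H.subtype := by
    rw [← dm, comap_map_eq_self_of_injective H.subtype_injective]
  have dle : D F ≤ H := by rw [← dm]; exact map_subtype_le _
  have nm : ∀ (K : Subgroup H) (g : H), g ∈ normalizer (K : Set H) ↔ (g : G) ∈ normalizer (K.map H.subtype : Set G) := by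
    intro K g
    simp only [mem_normalizer_iff]
    constructor
    · intro a y
      constructor
      · rintro ⟨k, hk, rfl⟩
        exact ⟨g * k * g⁻¹, (a k).1 hk, rfl⟩
      · rintro ⟨k, hk, e⟩
        have : y = (g⁻¹ * k * g : H) := by
          have e' : (k : G) = g * y * (g : G)⁻¹ := e
          simp only [coe_mul, coe_inv, e']; group
        refine ⟨g⁻¹ * k * g, (a _).2 ?_, this.symm⟩
        have : g * (g⁻¹ * k * g) * g⁻¹ = k := by group
        rw [this]; exact hk
    · intro a y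
      constructor
      · intro hy
        obtain ⟨k, hk, e⟩ := (a y).1 ⟨y, hy, rfl⟩
        have : k = g * y * g⁻¹ := Subtype.ext e
        exact this ▸ hk
      · intro hy
        obtain ⟨k, hk, e⟩ := (a y).2 ⟨g * y * g⁻¹, hy, rfl⟩
        have : k = y := Subtype.ext e
        exact this ▸ hk
  have sw : s * F (w * t) * s = F u := by rw [← ca, h.ss]
  refine ⟨f, ⟨s, hs⟩, ?_, ?_, Subtype.ext h.s2, Subtype.ext h.sz, ?_, ?_, ?_, ?_, ?_, ?_⟩
  · intro x y e
    exact Subtype.ext (h.inj (congrArg Subtype.val e))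
  · intro g
    rw [nm, MonoidHom.map_zpowers]
    refine (h.hN g).trans ⟨fun ⟨x, e⟩ => lift g x e, fun ⟨x, e⟩ => ⟨x, congrArg Subtype.val e⟩⟩
  · apply Subtype.ext
    show s * F H19.Cm.I = F H19.Cm.I * s
    have e : s * F H19.Cm.I * s = F H19.Cm.I := by
      conv_lhs => rw [k1.2.1, map_mul F, map_mul F, map_mul F, h.sm, h.sm, h.sm, sw, h.st', ca]
      rw [k1.2.2.1]; simp only [map_mul]
    calc s * F H19.Cm.I = s * F H19.Cm.I * s * s := by rw [mul_assoc _ s, h.s2, mul_one]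
      _ = _ := by rw [e]
  · apply Subtype.ext
    show s * F H19.Cm.U * s = F H19.Cm.U'
    rw [k1.2.2.2.1, k1.2.2.2.2]; exact ca
  · obtain ⟨P, hP⟩ := h.syl
    refine ⟨P.comapOfInjective H.subtype H.subtype_injective (by rw [hP, range_subtype]; exact dle), ?_⟩
    rw [Sylow.coe_comapOfInjective, hP, dc]
  · rw [← h.cD, ← dm, card_map_of_injective H.subtype_injective]
  · intro g hg
    rw [nm, dm] at hg
    exact (h.hD g hg).imp (fun ⟨x, e⟩ => lift g x e) fun ⟨x, e⟩ => lift (g * ⟨s, hs⟩) x e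
  · intro g hg
    rw [nm, dm]
    exact h.hy g (congrArg Subtype.val hg)

/-- part A5 -/
theorem a5 [Finite G] (h : Hy F s) (ca : CA F s) (H : Subgroup G) (hi : H.index = 2) (ht : F t ∉ H) :
    ∃ (f : H19.Cm.L →* H) (s1 : H), H19.Cm.Hy f s1 := by
  by_cases hs : s ∈ H
  · exact a5' h ca H hi ht hs
  · exact a5' h.tw (h.twA ca) H hi ht ((mul_mem_iff_of_index_two hi).2 (by simp [hs, ht]))

/-- the ending of case A -/
theorem s8 [Finite G] (ps : PS F s) {H : Subgroup G} (hi : H.index = 2) (e : H ≃* alternatingGroup (Fin 8)) :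
    Nonempty (G ≃* Perm (Fin 8)) := by
  obtain ⟨ψ, inj, -⟩ := ps
  have c1 : Nat.card G = Nat.card (Perm (Fin 8)) := by
    rw [← H.card_mul_index, hi, Nat.card_congr e.toEquiv, ← (alternatingGroup (Fin 8)).card_mul_index,
      alternatingGroup.index_eq_two]
  exact ⟨(MulEquiv.ofBijective ψ ((Nat.bijective_iff_injective_and_card ψ).2 ⟨inj, c1.symm⟩)).symm⟩

end H06.Dm
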