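import Cfsg.Agent.H06.FV0
set_option autoImplicit false
open Cfsg BG Subgroup
open scoped commutatorElement
universe u
namespace Cfsg.Agent.H06.HS
open Cfsg.Agent.H06.FV

/-- the simple case of the general Hall-Higman-Shult theorem -/
structure Hq {Γ : Type u} [Group Γ] (p r : ℕ) (G : Subgroup Γ) : Prop where
  pp : p.Prime
  p2 : p ≠ 2
  rp : r.Prime
  r2 : r ≠ 2
  pr : p ≠ r
  fer : ∃ n : ℕ, r = 2 ^ n + 1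
  nG : G.Normal
  simple : IsSimpleGroup G
  na : ¬ IsMulCommutative G
  rG : ¬ r ∣ Nat.card G
  idx : G.index = r
  nc : ∀ R : Subgroup Γ, Nat.card R = r → ¬ G ≤ C_(R)
  pc : ∀ R H : Subgroup Γ, Nat.card R = r → H < G → R ≤ N_(H) → PCl p ⁅H, R⁆
  q : ∀ (R X : Subgroup Γ) (q : ℕ), Nat.card R = r → q.Prime → q ≠ 2 → q ≠ p → X ≤ G → R ≤ N_(X) → IsPGroup q X →
    X ≤ C_(R)
  sp : ∀ R E : Subgroup Γ, Nat.card R = r → E ≤ G → IsPGroup 2 E → ⁅E, R⁆ = E →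
    E ⊓ C_(R) ≤ C_(E) ∧ ⁅E, E⁆ ≤ C_(R) ∧ (∀ x ∈ E, x ^ 2 ∈ C_(R)) ∧ ∀ b ∈ E ⊓ C_(R), b ^ 2 = 1
  h2 : ∀ R F : Subgroup Γ, Nat.card R = r → F ≤ G → IsPGroup 2 F → ⁅F, R⁆ = F → F ≠ ⊥ → IsMulCommutative F →
    ⁅G ⊓ C_(F), R⁆ ≤ F
  m5 : ∀ (R F : Subgroup Γ) (a : Γ), Nat.card R = r → F ≤ G → IsPGroup 2 F → ⁅F, R⁆ = F → a ∈ G →
    IsPGroup p (zpowers a) → a ∈ C_(R) → a ∈ N_(F) → a ∈ C_(F ⊓ C_(R)) → a ∈ C_(F)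

def G1Stmt : Prop := ∀ (Γ : Type u) [Group Γ] [Finite Γ] (p r : ℕ) (G : Subgroup Γ), ¬ Hq p r G

/-- `p`-elements centralizing `R` and the centre of `F` centralize `F` -/
def M5Stmt : Prop := ∀ (Γ : Type u) [Group Γ] [Finite Γ] (p r : ℕ) (V R F : Subgroup Γ) (a : Γ), Md p r V R →
  F ≤ N_(V) → a ∈ N_(V) → ((F ⊔ zpowers a) ⊔ R) ⊓ C_(V) = ⊥ → IsPGroup 2 F → r ≠ 2 → ⁅F, R⁆ = F →
  IsPGroup p (zpowers a) → a ∈ C_(R) → a ∈ N_(F) → a ∈ C_(F ⊓ C_(R)) → a ∈ C_(F)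

/-- the ZJ step -/
def ZJStmt : Prop := ∀ (Γ : Type u) [Group Γ] [Finite Γ] (p r : ℕ) (Q S E R : Subgroup Γ), p.Prime → p ≠ 2 → r.Prime →
  r ≠ 2 → p ≠ r → (∃ n : ℕ, r = 2 ^ n + 1) → Nat.card R = r → IsPGroup p S → IsPGroup 2 E → Q ≤ S → S ≤ N_(Q) →
  E ≤ N_(Q) → R ≤ N_(S) → ⁅S, R⁆ ≤ Q → S ≤ N_(Q ⊔ E) → ⁅E, R⁆ = E → E ⊓ C_(R) ≤ C_(E) → ⁅E, E⁆ ≤ C_(R) →
  (∀ x ∈ E, x ^ 2 ∈ C_(R)) → ¬ Q ≤ C_(R) → S ≤ C_(E ⊓ C_(Q)) →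
  ∃ A : Subgroup Γ, A ≠ ⊥ ∧ A ≤ S ∧ N_(S) ≤ N_(A) ∧ E ≤ N_(A)

/-- the faithful irreducible minimal case -/
def CoreS : Prop := ∀ (Γ : Type u) [Group Γ] [Finite Γ] (p r : ℕ) (V R L : Subgroup Γ), Md p r V R →
  L ≤ N_(V) → R ≤ N_(L) → ¬ r ∣ Nat.card L → (L ⊔ R) ⊓ C_(V) = ⊥ →
  (∀ U ≤ V, L ≤ N_(U) → R ≤ N_(U) → U = ⊥ ∨ U = V) → (∀ H < L, R ≤ N_(H) → PCl p ⁅H, R⁆) → PCl p ⁅L, R⁆

def AutS : Prop := ∀ (Q : Type u) [Group Q] [Finite Q] (p r : ℕ), p.Prime → p ≠ 2 → r.Prime → IsPGroup p Q →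
  ∀ (σ : MulAut Q) (L : Subgroup (MulAut Q)), σ ^ r = 1 → (∀ x, σ x = x → x = 1) → σ ∈ N_(L) → ¬ r ∣ Nat.card L →
  PCl p ⁅L, zpowers σ⁆

end Cfsg.Agent.H06.HS
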