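import Cfsg.Agent.H06.HS0
import Cfsg.Agent.H06.FV1
set_option autoImplicit false
set_option linter.unusedSectionVars false
open Cfsg BG Subgroup
open scoped commutatorElement
universe u
namespace Cfsg.Agent.H06.HS
open Cfsg.Agent.H06.FV (PCl pr2 idx_dvd fact_of comm_le_of_fact)
variable {Γ : Type u} [Group Γ] [Finite Γ] {p r q : ℕ} {G R R₁ H K X E E₁ P D F C A : Subgroup Γ}

theorem idx_sub (hq : q.Prime) (hs : Group.IsSolvable R) (hn : R ≤ N_(K)) (hc : (Nat.card R).Coprime (Nat.card K))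
    (hX : IsPGroup q X) (hK : X ≤ K) (nX : R ≤ N_(X)) : C_(R).relIndex X ∣ C_(R).relIndex K := by
  obtain ⟨T, hT⟩ := sylow_exists hq (K ⊓ C_(R))
  obtain ⟨S, hS, nS, lS⟩ := coprime_sylow_superset hq (Or.inl hs) hn hc (hT.pg hq) (hT.le.trans inf_le_left)
    (le_norm_of_cent (cent_symm (hT.le.trans inf_le_right)))
  obtain ⟨S', hS', nS', lS'⟩ := coprime_sylow_superset hq (Or.inl hs) hn hc hX hK nX
  obtain ⟨c, hc', rfl⟩ := coprime_sylow_trans hq (Or.inl hs) hn hc hS hS' nS nS'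
  have e : C_(R) ⊓ S = T := hT.eq_of_pg hq (pg_le (hS.pg hq) inf_le_right) (le_inf (hT.le.trans inf_le_right) lS)
    (le_inf (inf_le_right.trans hS.le) inf_le_left)
  have e1 : C_(R).relIndex (cj c S) = C_(R).relIndex S := by
    have a := card_inf_mul_relIndex C_(R) (cj c S)
    rw [← cj_of_mem (X := C_(R)) hc'.2, ← cj_inf, card_cj, card_cj, ← card_inf_mul_relIndex C_(R) S,
      cj_of_mem (X := C_(R)) hc'.2] at a
    exact Nat.eq_of_mul_eq_mul_left (card_pos _) a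
  obtain ⟨a, ha⟩ := pg_card hq (hS.pg hq)
  obtain ⟨i, -, hi⟩ := (Nat.dvd_prime_pow hq).1 (ha ▸ BG.relIndex_dvd_card C_(R) S)
  obtain ⟨b, hb⟩ := pg_card hq hX
  obtain ⟨j, -, hj⟩ := (Nat.dvd_prime_pow hq).1 (hb ▸ BG.relIndex_dvd_card C_(R) X)
  have le := relIndex_le_of_le_right (H := C_(R)) lS' (relIndex_ne_zero _ _)
  rw [e1, hi, hj, Nat.pow_le_pow_iff_right hq.one_lt] at le
  rw [hj]
  refine (pow_dvd_pow q le).trans ?_
  have a1 := card_inf_mul_relIndex C_(R) K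
  have a2 := card_inf_mul_relIndex C_(R) S
  rw [inf_comm, ← card_mul_relIndex hT.le, ← card_mul_relIndex hS.le, ← a2, e, mul_assoc, mul_assoc, hi] at a1
  exact (Nat.Coprime.pow_left i ((Nat.Prime.coprime_iff_not_dvd hq).2 (hT.not_dvd' hq))).dvd_of_dvd_mul_left
    (Nat.eq_of_mul_eq_mul_left (card_pos _) a1 ▸ dvd_mul_right _ _)

theorem idx_comm (hs : Group.IsSolvable R) (hn : R ≤ N_(K)) (hc : (Nat.card R).Coprime (Nat.card K)) :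
    C_(R).relIndex K = C_(R).relIndex ⁅K, R⁆ := by
  have a := coprime_comm_sup_cent hn hc (Or.inl hs)
  have b := relIndex_sup' (K := ⁅K, R⁆) (H := K ⊓ C_(R)) (inf_le_left.trans (left_le_norm_comm K R))
  rw [a, inf_relIndex_left, ← inf_relIndex_right (K ⊓ C_(R)), inf_right_comm, inf_eq_right.2 (comm_le_left hn),
    inf_relIndex_left] at b
  exact b

/-- if `R` centralizes the invariant `q`-subgroups for `q ≠ 2, p` then `[H, R]` is generated by `[P, R]` and `[D, R]` -/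
theorem l1g (hp : p.Prime) (hs : Group.IsSolvable R) (hn : R ≤ N_(H)) (hc : (Nat.card R).Coprime (Nat.card H))
    (hq : ∀ (q : ℕ) (X : Subgroup Γ), q.Prime → q ≠ 2 → q ≠ p → X ≤ H → R ≤ N_(X) → IsPGroup q X → X ≤ C_(R))
    (hP : IsSylowIn p P H) (nP : R ≤ N_(P)) (hD : IsSylowIn 2 D H) (nD : R ≤ N_(D)) (hK : K ≤ H) (nK : R ≤ N_(K))
    (h1 : ⁅P, R⁆ ≤ K) (h2 : ⁅D, R⁆ ≤ K) : ⁅H, R⁆ ≤ ⁅K, R⁆ := by
  refine comm_le_of_fact nK fun x hx => fact_of hK (Nat.le_of_dvd (Nat.pos_of_ne_zero (relIndex_ne_zero _ _))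
    (idx_dvd fun q hq' => ?_)) hx
  have k : ∀ S : Subgroup Γ, IsSylowIn q S H → R ≤ N_(S) → ⁅S, R⁆ ≤ K → C_(R).relIndex S ∣ C_(R).relIndex K :=
    fun S hS nS l => by
      rw [idx_comm hs nS (coprime_mono hc le_rfl hS.le)]
      exact idx_sub hq' hs nK (coprime_mono hc le_rfl hK) (pg_le (hS.pg hq') (comm_le_left nS)) l (right_le_norm_comm _ _)
  by_cases e : q = p
  · exact ⟨P, e ▸ hP, k P (e ▸ hP) nP h1⟩
  by_cases e' : q = 2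
  · exact ⟨D, e' ▸ hD, k D (e' ▸ hD) nD h2⟩
  · obtain ⟨S, hS, nS⟩ := coprime_sylow_exists hq' (Or.inl hs) hn hc
    exact ⟨S, hS, by rw [relIndex_eq_one.2 (hq q S hq' e' e hS.le nS (hS.pg hq'))]; exact one_dvd _⟩

namespace Hq
variable (h : Hq p r G)
include h

theorem cop (hR : Nat.card R = r) (hX : X ≤ G) : (Nat.card R).Coprime (Nat.card X) :=
  hR ▸ (Nat.Prime.coprime_iff_not_dvd h.rp).2 (not_dvd_of_le h.rG hX)
theorem sol (hR : Nat.card R = r) : Group.IsSolvable R ∨ Group.IsSolvable K :=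
  Or.inl (sol_of_abelian (abelian_of_cyclic (cyclic_of_prime (hR ▸ h.rp))))
theorem nm (A : Subgroup Γ) : A ≤ N_(G) := by have := h.nG; rw [normalizer_eq_top]; exact le_top
theorem cG (hX : X ≤ G) : ⁅X, R⁆ ≤ G := (comm_mono hX le_rfl).trans (comm_le_left (h.nm R))
theorem dec (hR : Nat.card R = r) (hX : X ≤ G) (hn : R ≤ N_(X)) : ⁅X, R⁆ ⊔ (X ⊓ C_(R)) = X :=
  coprime_comm_sup_cent hn (h.cop hR hX) (h.sol hR)
theorem cc (hR : Nat.card R = r) (hX : X ≤ G) (hn : R ≤ N_(X)) : ⁅⁅X, R⁆, R⁆ = ⁅X, R⁆ :=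
  coprime_comm_comm hn (h.cop hR hX) (h.sol hR)
theorem dec' (hR : Nat.card R = r) (hX : X ≤ G) (hn : R ≤ N_(X)) {x : Γ} (hx : x ∈ X) :
    ∃ e ∈ ⁅X, R⁆, ∃ t ∈ X ⊓ C_(R), e * t = x :=
  (mem_sup_norm (inf_le_left.trans (left_le_norm_comm X R))).1 ((h.dec hR hX hn).ge hx)
theorem simp' (hX : X ≤ G) (hn : G ≤ N_(X)) : X = ⊥ ∨ X = G := by
  have := h.simple
  rcases ((normal_subgroupOf_iff_le_normalizer hX).2 hn).eq_bot_or_eq_top with e | e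
  · left; rwa [subgroupOf_eq_bot, disjoint_iff, inf_eq_left.2 hX] at e
  · right; exact le_antisymm hX (subgroupOf_eq_top.1 e)
theorem nsol : ¬ Group.IsSolvable G := fun k => by
  have := h.simple
  exact h.na ⟨⟨IsSimpleGroup.comm_iff_isSolvable.2 k⟩⟩
theorem lt_norm (hX : X ≤ G) (h0 : X ≠ ⊥) (hs : IsPGroup q X) (hq : q.Prime) : G ⊓ N_(X) < G :=
  lt_of_le_of_ne inf_le_left fun e =>
    (h.simp' hX (inf_eq_left.1 e)).elim h0 fun e => h.nsol (e ▸ pg_sol hq hs)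
theorem cardT : Nat.card Γ = Nat.card G * r := by rw [← h.idx, card_mul_index]
theorem top (hR : Nat.card R = r) : G ⊔ R = ⊤ := by
  refine eq_top_of_card_eq _ ?_
  rw [card_sup_of_disj (h.nm R) (BG.inf_eq_bot_of_coprime (h.cop hR le_rfl).symm), hR, h.cardT]
theorem sylR (hR : Nat.card R = r) : IsSylowIn r R ⊤ := by
  refine isSylowIn_mk h.rp le_top (pg_of_card_eq hR) ?_
  have := R.card_mul_index
  rw [h.cardT, hR, mul_comm] at this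
  rw [relIndex_top_right, Nat.eq_of_mul_eq_mul_right h.rp.pos this]
  exact h.rG
theorem conjR (hR : Nat.card R = r) (hR₁ : Nat.card R₁ = r) (h1 : R ≤ N_(A)) (h2 : R₁ ≤ N_(A)) :
    ∃ k ∈ G ⊓ N_(A), R₁ = cj k R := by
  obtain ⟨g, hg, e⟩ := sylow_trans h.rp ((h.sylR hR).sub h1 le_top) ((h.sylR hR₁).sub h2 le_top)
  obtain ⟨k, hk, s, hs, rfl⟩ := (mem_sup_norm (h.nm R)).1 ((h.top hR).ge (mem_top g))
  exact ⟨k, ⟨hk, by simpa using mul_mem hg (inv_mem (h1 hs))⟩, by rw [e, cj_mul_of_mem_norm (le_norm R hs)]⟩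
theorem two_le (hX : IsPGroup 2 X) : X ≤ G := by
  have e1 : G.relIndex X ∣ r := h.idx ▸ relIndex_top_right G ▸ relIndex_dvd_of_norm le_top (h.nm ⊤)
  obtain ⟨n, hn⟩ := pg_card pr2 hX
  have e2 : G.relIndex X ∣ 2 ^ n := hn ▸ BG.relIndex_dvd_card G X
  exact relIndex_eq_one.1 (Nat.eq_one_of_dvd_coprimes
    (Nat.Coprime.pow_right n ((Nat.coprime_primes h.rp pr2).2 h.r2)) e1 e2)
theorem solR (hR : Nat.card R = r) : Group.IsSolvable R :=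
  sol_of_abelian (abelian_of_cyclic (cyclic_of_prime (hR ▸ h.rp)))
theorem l1 (hR : Nat.card R = r) (hH : H ≤ G) (hn : R ≤ N_(H)) (hP : IsSylowIn p P H) (nP : R ≤ N_(P))
    (hD : IsSylowIn 2 D H) (nD : R ≤ N_(D)) (hK : K ≤ H) (nK : R ≤ N_(K)) (h1 : ⁅P, R⁆ ≤ K) (h2 : ⁅D, R⁆ ≤ K) :
    ⁅H, R⁆ ≤ ⁅K, R⁆ :=
  l1g h.pp (h.solR hR) hn (h.cop hR hH) (fun q X a b c d e f => h.q R X q hR a b c (d.trans hH) e f) hP nP hD nD hK nK h1 h2
theorem gr (hR : Nat.card R = r) : ⁅G, R⁆ = G :=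
  (h.simp' (h.cG le_rfl) (left_le_norm_comm _ _)).resolve_left fun e => h.nc R hR (comm_eq_bot.1 e)
theorem l1' (hR : Nat.card R = r) (hP : IsSylowIn p P G) (nP : R ≤ N_(P)) (hD : IsSylowIn 2 D G) (nD : R ≤ N_(D))
    (hK : K < G) (nK : R ≤ N_(K)) (h1 : ⁅P, R⁆ ≤ K) (h2 : ⁅D, R⁆ ≤ K) : False :=
  hK.not_ge ((h.gr hR).ge.trans ((h.l1 hR le_rfl (h.nm R) hP nP hD nD hK.le nK h1 h2).trans (comm_le_left nK)))
/-- the normal Sylow `p`-subgroup of `[H, R]` -/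
theorem op (hR : Nat.card R = r) (hH : H < G) (hn : R ≤ N_(H)) : ∃ Q : Subgroup Γ, IsSylowIn p Q ⁅H, R⁆ ∧
    N_(⁅H, R⁆) ≤ N_(Q) ∧ ∀ X : Subgroup Γ, IsPGroup p X → X ≤ H → R ≤ N_(X) → ⁅X, R⁆ ≤ Q := by
  obtain ⟨Q, s, n⟩ := h.pc R H hR hH hn
  exact ⟨Q, s, s.norm_le n, fun X a b c => s.le_of_norm_pg' h.pp (pg_le a (comm_le_left c)) (comm_mono b le_rfl)
    ((comm_mono b le_rfl).trans n)⟩
theorem two_of (hR : Nat.card R = r) (hH : H < G) (hn : R ≤ N_(H)) (hX : IsPGroup 2 X) (hle : X ≤ H) (nX : R ≤ N_(X)) :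
    ∃ Q D : Subgroup Γ, IsSylowIn p Q ⁅H, R⁆ ∧ N_(⁅H, R⁆) ≤ N_(Q) ∧ IsSylowIn 2 D H ∧ X ≤ D ∧ R ≤ N_(D) ∧
      ⁅H, R⁆ = Q ⊔ ⁅D, R⁆ := by
  obtain ⟨D, h1, h2, h3⟩ := coprime_sylow_superset pr2 (h.sol hR) hn (h.cop hR hH.le) hX hle nX
  obtain ⟨Q, s, n, k⟩ := h.op hR hH hn
  obtain ⟨P, s1, n1⟩ := coprime_sylow_exists h.pp (h.sol hR) hn (h.cop hR hH.le)
  have nK := norm_sup ((right_le_norm_comm H R).trans n) (right_le_norm_comm D R)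
  have l := sup_le s.le (comm_mono h1.le (le_refl R))
  exact ⟨Q, D, s, n, h1, h3, h2, le_antisymm ((h.l1 hR hH.le hn s1 n1 h1 h2 (l.trans (comm_le_left hn)) nK
    ((k P (s1.pg h.pp) s1.le n1).trans le_sup_left) le_sup_right).trans (comm_le_left nK)) l⟩
end Hq

/-- `E = [D, R]` for an `R`-invariant Sylow 2-subgroup -/
structure Mx (p r : ℕ) (G R E : Subgroup Γ) : Prop where
  h : Hq p r G
  cR : Nat.card R = r
  ex : ∃ D, IsSylowIn 2 D G ∧ R ≤ N_(D) ∧ E = ⁅D, R⁆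

namespace Mx
variable (m : Mx p r G R E)
include m
theorem nE : R ≤ N_(E) := by obtain ⟨D, -, -, rfl⟩ := m.ex; exact right_le_norm_comm _ _
theorem pg : IsPGroup 2 E := by obtain ⟨D, h1, h2, rfl⟩ := m.ex; exact pg_le (h1.pg pr2) (comm_le_left h2)
theorem le : E ≤ G := m.h.two_le m.pg
theorem cc : ⁅E, R⁆ = E := by obtain ⟨D, h1, h2, rfl⟩ := m.ex; exact m.h.cc m.cR h1.le h2
theorem cj (g : Γ) : Mx p r G (cj g R) (cj g E) := by
  obtain ⟨D, h1, h2, rfl⟩ := m.ex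
  refine ⟨m.h, by simpa using m.cR, BG.cj g D, h1.cj_of_norm (m.h.nm ⊤ (mem_top g)), ?_, cj_comm _ _ _⟩
  rw [← cj_norm]; exact cj_mono g h2
theorem conj (m₁ : Mx p r G R₁ E₁) : ∃ g ∈ G, R₁ = BG.cj g R ∧ E₁ = BG.cj g E := by
  obtain ⟨k, hk, rfl⟩ := m.h.conjR m.cR m₁.cR le_norm_top le_norm_top
  obtain ⟨D, h1, h2, e⟩ := (m.cj k).ex
  obtain ⟨D₁, k1, k2, rfl⟩ := m₁.ex
  obtain ⟨c, hc, rfl⟩ := coprime_sylow_trans pr2 (m.h.sol m₁.cR) (m.h.nm _) (m.h.cop m₁.cR le_rfl) h1 k1 h2 k2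
  have := cj_of_mem_cent hc.2
  exact ⟨c * k, mul_mem hc.1 hk.1, by rw [← cj_cj, this], by rw [← cj_cj, e, cj_comm, this]⟩
theorem card (m₁ : Mx p r G R₁ E₁) : Nat.card E₁ = Nat.card E := by
  obtain ⟨g, -, -, rfl⟩ := m.conj m₁; simp
omit m in
theorem sup (h : Hq p r G) (hR : Nat.card R = r) (hX : IsPGroup 2 X) (hn : R ≤ N_(X)) :
    ∃ E, Mx p r G R E ∧ ⁅X, R⁆ ≤ E := by
  obtain ⟨D, h1, h2, h3⟩ := coprime_sylow_superset pr2 (h.sol hR) (h.nm _) (h.cop hR le_rfl) hX (h.two_le hX) hn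
  exact ⟨_, ⟨h, hR, D, h1, h2, rfl⟩, comm_mono h3 le_rfl⟩
theorem max (hX : IsPGroup 2 X) (hn : R ≤ N_(X)) (hE : E ≤ X) : ⁅X, R⁆ = E := by
  obtain ⟨E', m', k⟩ := sup m.h m.cR hX hn
  have a : E ≤ ⁅X, R⁆ := m.cc.ge.trans (comm_mono hE le_rfl)
  exact le_antisymm (k.trans (eq_of_le_of_card_eq (a.trans k) (m.card m').symm).ge) a
theorem ne : E ≠ ⊥ := fun e => by
  have h := m.h
  obtain ⟨P, s, n⟩ := coprime_sylow_exists h.pp (h.sol m.cR) (h.nm R) (h.cop m.cR le_rfl)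
  obtain ⟨D, h1, h2, e1⟩ := m.ex
  exact h.l1' m.cR s n h1 h2 (lt_of_le_of_ne s.le fun k => h.nsol (k ▸ pg_sol h.pp (s.pg h.pp))) n (comm_le_left n)
    (by rw [← e1, e]; exact bot_le)
end Mx

def L5 (p r : ℕ) (G : Subgroup Γ) : Prop :=
  ∀ R E H : Subgroup Γ, Mx p r G R E → H < G → R ≤ N_(H) → E ≤ H → ⁅H, R⁆ = E

namespace Mx
variable [L : Fact (L5 p r G)] (m : Mx p r G R E)
include m
theorem l5 (hH : H < G) (hn : R ≤ N_(H)) (hE : E ≤ H) : ⁅H, R⁆ = E := L.out R E H m hH hn hE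
theorem l5' (hH : H < G) (hn : R ≤ N_(H)) (hE : E ≤ H) : H ≤ N_(E) := m.l5 hH hn hE ▸ left_le_norm_comm H R
theorem cN : ⁅G ⊓ N_(E), R⁆ = E :=
  m.l5 (m.h.lt_norm m.le m.ne m.pg pr2) (norm_inf (m.h.nm R) (norm_norm m.nE)) (le_inf m.le (le_norm E))
theorem cX (hX : X ≤ G) (hn : X ≤ N_(E)) : ⁅X, R⁆ ≤ E := (comm_mono (le_inf hX hn) le_rfl).trans m.cN.le
theorem nX (hX : X ≤ G) (hn : X ≤ N_(E)) (hE : E ≤ X) : R ≤ N_(X) := le_norm_of_comm_le ((m.cX hX hn).trans hE)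
theorem nA (hA : IsPGroup 2 A) (h0 : A ≠ ⊥) (h1 : R ≤ N_(A)) (h2 : E ≤ N_(A)) : G ⊓ N_(A) ≤ N_(E) :=
  m.l5' (m.h.lt_norm (m.h.two_le hA) h0 hA pr2) (norm_inf (m.h.nm R) (norm_norm h1)) (le_inf m.le h2)
theorem mu (m₁ : Mx p r G R₁ E₁) (h1 : E₁ ≤ N_(E)) (h2 : E ≤ N_(E₁)) : E₁ = E := by
  have pX := pg_sup m.pg m₁.pg h1
  have XG := m.h.two_le pX
  have a := m.nX XG (sup_le_norm_left h1) le_sup_left
  have b := m₁.nX XG (sup_le_norm_right h2) le_sup_right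
  obtain ⟨k, hk, rfl⟩ := m.h.conjR m.cR m₁.cR a b
  rw [← m₁.max pX b le_sup_right, ← cj_of_mem_norm hk.2, ← cj_comm, m.max pX a le_sup_left]
  exact cj_of_mem_norm (m.nA pX (ne_bot_mono m.ne le_sup_left) a (norm_of_le le_sup_left) hk)
theorem two_norm (hX : IsPGroup 2 X) (hE : E ≤ X) : X ≤ N_(E) := by
  by_contra k
  obtain ⟨x, ⟨hx, hn⟩, h0⟩ := SetLike.exists_of_lt
    (nil_lt_norm (pg_nil pr2 hX) (lt_of_le_of_ne inf_le_left fun e => k (inf_eq_left.1 e) : X ⊓ N_(E) < X))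
  have a : E ≤ X ⊓ N_(E) := le_inf hE (le_norm E)
  refine h0 ⟨hx, cj_eq_self_iff.1 (m.mu (m.cj x) ((cj_le_of_mem_norm a hn).trans inf_le_right) ?_)⟩
  rw [← cj_norm, le_cj_iff]
  exact (cj_le_of_mem_norm a (inv_mem hn)).trans inf_le_right
theorem wc (m₁ : Mx p r G R₁ E₁) (h1 : E₁ ≤ N_(E)) : E₁ = E :=
  m.mu m₁ h1 (le_sup_left.trans (m₁.two_norm (pg_sup m.pg m₁.pg h1) le_sup_right))
end Mx
end Cfsg.Agent.H06.HS
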