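import Cfsg.Agent.H06.HS1
import Cfsg.Agent.H06.FV3
set_option autoImplicit false
set_option linter.unusedSectionVars false
open Cfsg BG Subgroup
open scoped commutatorElement
universe u
namespace Cfsg.Agent.H06.HS
open Cfsg.Agent.H06.FV (PCl pr2 zz nz zc kc kc_le cm_mem cm_mem' z_kc nk cm1 kc_of fx ab_of_sq pgz)
variable {Γ : Type u} [Group Γ] [Finite Γ] {p r q : ℕ} {G R R₁ H K X E E₁ P D F F₁ C A U B : Subgroup Γ}
  {x y u t f g b e : Γ}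

/-- abelian `R`-invariant 2-subgroups without fixed points -/
structure Fa (p r : ℕ) (G R F : Subgroup Γ) : Prop where
  h : Hq p r G
  cR : Nat.card R = r
  pg : IsPGroup 2 F
  cc : ⁅F, R⁆ = F
  ne : F ≠ ⊥
  ab : F ≤ C_(F)

namespace Fa
variable (a : Fa p r G R F)
include a
theorem nF : R ≤ N_(F) := a.cc ▸ right_le_norm_comm F R
theorem le : F ≤ G := a.h.two_le a.pg
theorem h2 (hX : X ≤ G) (hc : X ≤ C_(F)) : ⁅X, R⁆ ≤ F :=
  (comm_mono (le_inf hX hc) le_rfl).trans (a.h.h2 R F a.cR a.le a.pg a.cc a.ne (abelian_iff.2 a.ab))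
theorem cF : F ⊓ C_(R) = ⊥ := by
  have := (coprime_abelian_dprod a.nF (a.h.cop a.cR a.le) (abelian_iff.2 a.ab)).disj
  rwa [a.cc, inf_eq_left.2 inf_le_left] at this
theorem sq (hf : f ∈ F) : f * f = 1 :=
  eq_one_of_mem_of_disj a.cF (mul_mem hf hf) (pow_two f ▸ (a.h.sp R F a.cR a.le a.pg a.cc).2.2.1 f hf)
theorem cj (g : Γ) : Fa p r G (cj g R) (cj g F) :=
  ⟨a.h, by simpa using a.cR, by simpa using a.pg, by rw [← cj_comm, a.cc], by simpa using a.ne,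
    by rw [← cj_cent]; exact cj_mono g a.ab⟩
end Fa

structure Nb (p r : ℕ) (G R E : Subgroup Γ) : Prop extends Mx p r G R E where
  na : ¬ E ≤ C_(E)

namespace Nb
variable (m : Nb p r G R E)
include m
theorem mkF (hK : K ≤ E) (nK : R ≤ N_(K)) (ab : K ≤ C_(K)) (h0 : ¬ K ≤ C_(R)) : Fa p r G R ⁅K, R⁆ :=
  have l := comm_le_left nK
  ⟨m.h, m.cR, pg_le m.pg (l.trans hK), m.h.cc m.cR (hK.trans m.le) nK, fun e => h0 (comm_eq_bot.1 e),
    le_cent_mono ab l l⟩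
theorem zB : zz E = E ⊓ C_(R) := by
  refine le_antisymm (le_inf inf_le_left ?_) (le_inf inf_le_left (m.h.sp R E m.cR m.le m.pg m.cc).1)
  by_contra k
  have n : R ≤ N_(zz E) := fun s hs => nz (m.nE hs)
  have a := m.mkF inf_le_left n (le_cent_mono inf_le_right le_rfl inf_le_left) k
  have := m.cc ▸ a.h2 m.le (cent_symm ((comm_le_left n).trans inf_le_right))
  exact m.na (this.trans ((comm_le_left n).trans inf_le_right))
theorem zR (hb : b ∈ zz E) : b ∈ C_(R) := (m.zB.le hb).2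
theorem zof (hb : b ∈ E) (h : b ∈ C_(R)) : b ∈ zz E := m.zB.ge ⟨hb, h⟩
theorem zsq (hb : b ∈ zz E) : b * b = 1 := pow_two b ▸ (m.h.sp R E m.cR m.le m.pg m.cc).2.2.2 b (m.zB.le hb)
theorem sqz (he : e ∈ E) : e * e ∈ zz E :=
  m.zof (mul_mem he he) (pow_two e ▸ (m.h.sp R E m.cR m.le m.pg m.cc).2.2.1 e he)
theorem cz (he : e ∈ E) (hf : f ∈ E) : ⁅e, f⁆ ∈ zz E :=
  m.zof (der_le E (commutator_mem_commutator he hf))
    ((m.h.sp R E m.cR m.le m.pg m.cc).2.1 (commutator_mem_commutator he hf))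
theorem zpg : IsPGroup 2 (zz E) := pg_le m.pg inf_le_left
theorem zG : zz E ≤ G := inf_le_left.trans m.le
theorem nZ : R ≤ N_(zz E) := fun _ hs => nz (m.nE hs)
theorem nlz : ¬ E ≤ zz E := fun k => m.na (k.trans inf_le_right)
theorem cj (g : Γ) : Nb p r G (cj g R) (cj g E) :=
  ⟨m.toMx.cj g, fun k => m.na (by rw [← cj_cent] at k; simpa using cj_mono g⁻¹ k)⟩
theorem kc_mul (he : e ∈ E) : kc E (e * t) = kc E t := by
  ext f
  have : ⁅f, e * t⁆ = ⁅f, e⁆ * (e * ⁅f, t⁆ * e⁻¹) := by simp only [commutatorElement_def]; group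
  refine and_congr_right fun hf => ?_
  rw [this, mul_mem_cancel_left (m.cz hf he)]
  exact (mem_normalizer_iff.1 (nz (le_norm E he)) _).symm
theorem tl (ht : t ∈ C_(R)) (hK : K ≤ kc E t) : ⁅K, R⁆ ≤ C_[t] := commutator_le.2 fun k hk s hs => by
  obtain ⟨h1, h2⟩ := hK hk
  have e1 := mem_cent.1 ht s hs
  have e2 := mem_cent.1 (m.zR h2) s hs
  have e3 := zc h2 h1
  set b := ⁅k, t⁆ with hb
  have e4 : t * k * t⁻¹ = b⁻¹ * k := by rw [hb, commutatorElement_def]; group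
  rw [mem_cent1, eq_comm, ← mul_inv_eq_iff_eq_mul, conjugate_commutatorElement, e4, ← e1, mul_inv_cancel_right]
  have c : Commute b (k * s * k⁻¹) :=
    ((Commute.symm e3).mul_right (Commute.symm e2)).mul_right (Commute.symm e3).inv_right
  calc ⁅b⁻¹ * k, s⁆ = b⁻¹ * ((k * s * k⁻¹) * b) * s⁻¹ := by simp only [commutatorElement_def]; group
    _ = ⁅k, s⁆ := by rw [← c.eq, commutatorElement_def]; group
theorem tl' (ht : t ∈ C_(R)) (hK : E ≤ kc E t) : t ∈ C_(E) := le_cent1_iff.1 (m.cc.ge.trans (m.tl ht hK))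
theorem kdec (hK : K ≤ E) (nK : R ≤ N_(K)) : K ≤ ⁅K, R⁆ ⊔ zz E :=
  (m.h.dec m.cR (hK.trans m.le) nK).ge.trans (sup_le_sup_left (m.zB ▸ inf_le_inf_right _ hK) _)
section
variable (a : Fa p r G R F) (hF : F ≤ E)
include a hF
theorem fz : zz E ≤ C_(F) := inf_le_right.trans (cent_anti hF)
theorem fbc : F ⊔ zz E ≤ C_(F) := sup_le a.ab (m.fz a hF)
theorem fbE : F ⊔ zz E ≤ E := sup_le hF inf_le_left
theorem fbm (hf : f ∈ F ⊔ zz E) : ∃ k ∈ F, ∃ b ∈ zz E, k * b = f :=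
  (mem_sup_norm (le_norm_of_cent (m.fz a hF))).1 hf
theorem fbsq (hf : f ∈ F ⊔ zz E) : f * f = 1 := by
  obtain ⟨k, hk, b, hb, rfl⟩ := m.fbm a hF hf
  rw [mul_assoc, ← mul_assoc b, ← zc hb (hF hk), mul_assoc, m.zsq hb, mul_one, a.sq hk]
theorem cE (hK : K ≤ E) (hc : K ≤ C_(F)) : K ≤ F ⊔ zz E :=
  (le_inf hK hc).trans ((m.kdec inf_le_left (norm_inf m.nE (norm_cent a.nF))).trans
    (sup_le_sup_right (a.h2 (inf_le_left.trans m.le) inf_le_right) _))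
end
variable [L : Fact (L5 p r G)]
theorem cb (hb : b ∈ zz E) (h1 : b ≠ 1) (hg : g ∈ G) (hc : g * b = b * g) : g ∈ N_(E) := by
  have c : ∀ {S : Subgroup Γ}, b ∈ C_(S) → S ≤ N_(zpowers b) := fun h =>
    le_norm_of_cent (by rw [cent_zpowers]; exact le_cent1_iff.2 h)
  exact m.nA (pgz (m.zsq hb)) (zpowers_ne_bot h1) (c (m.zR hb)) (c hb.2)
    ⟨hg, cent_le_norm _ (by rw [cent_zpowers]; exact mem_cent1.2 hc)⟩
theorem cb' (hb : b ∈ zz E) (h1 : b ≠ 1) (hX : X ≤ G) (hc : X ≤ C_[b]) : X ≤ N_(E) :=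
  fun _ hg => m.cb hb h1 (hX hg) (mem_cent1.1 (hc hg))
theorem eq_of (m₁ : Nb p r G R₁ E₁) (hb : b ∈ zz E) (h1 : b ≠ 1) (h : b ∈ C_(E₁)) : E₁ = E :=
  m.wc m₁.toMx (m.cb' hb h1 m₁.le (le_cent1_iff.2 h))
theorem ti (m₁ : Nb p r G R₁ E₁) (ne : E₁ ≠ E) (hb : b ∈ zz E) (h : b ∈ zz E₁) : b = 1 :=
  by_contra fun k => ne (m.eq_of m₁ hb k h.2)
theorem dec (hG : u ∈ G) (hu : u ∈ N_(E)) : ∃ e ∈ E, ∃ t ∈ C_(R), t ∈ N_(E) ∧ e * t = u := by
  obtain ⟨e, he, t, ht, k⟩ := m.h.dec' m.cR inf_le_left (norm_inf (m.h.nm R) (norm_norm m.nE)) ⟨hG, hu⟩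
  exact ⟨e, m.cN.le he, t, ht.2, ht.1.2, k⟩
theorem rk (hG : u ∈ G) (hu : u ∈ N_(E)) : R ≤ N_(kc E u) := by
  obtain ⟨e, he, t, ht, -, rfl⟩ := m.dec hG hu
  rw [m.kc_mul he]
  exact fun s hs => nk (m.nE hs) (mem_cent.1 ht s hs)
theorem tr (hG : u ∈ G) (hu : u ∈ N_(E)) (hK : E ≤ kc E u) : ∃ e ∈ E, ∃ t ∈ C_(E), e * t = u := by
  obtain ⟨e, he, t, ht, -, rfl⟩ := m.dec hG hu
  exact ⟨e, he, t, m.tl' ht (m.kc_mul he ▸ hK), rfl⟩
omit m in
theorem tr2 (he : e ∈ E) (ht : t ∈ C_(E)) (hg : g ∈ N_(E)) (hc : g * (e * t) = e * t * g) : e ∈ kc E g := by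
  refine ⟨he, cm_mem hg he, ?_⟩
  have : ⁅e, g⁆ = e * ⁅t, g⁆⁻¹ * e⁻¹ := by
    calc ⁅e, g⁆ = e * (g * t) * (g * (e * t))⁻¹ := by simp only [commutatorElement_def]; group
      _ = _ := by rw [hc, commutatorElement_def]; group
  rw [this]
  exact conj_mem_of_norm (norm_le_norm_cent E (le_norm E he)) (inv_mem (cm_mem (norm_le_norm_cent E hg) ht))
section
variable (a : Fa p r G R F) (hF : F ≤ E)
include a hF
theorem irr2 (hg : g ∈ G) (hn : g ∈ N_(E)) (h1 : e ∈ F ⊔ zz E) (h2 : e ∈ kc E g) (h3 : e ∉ zz E) : F ≤ kc E g := by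
  have n : R ≤ N_((F ⊔ zz E) ⊓ kc E g) := norm_inf (norm_sup a.nF m.nZ) (m.rk hg hn)
  have l := comm_le_left n
  have a' := m.mkF (inf_le_right.trans kc_le) n (ab_of_sq (K := (F ⊔ zz E) ⊓ kc E g) fun y hy => m.fbsq a hF hy.1)
    fun k => h3 (m.zof h2.1 (k ⟨h1, h2⟩))
  have := a'.h2 a.le (cent_symm (l.trans (inf_le_left.trans (m.fbc a hF))))
  exact a.cc.ge.trans (this.trans (l.trans inf_le_right))
theorem irr (hU : IsPGroup 2 U) (h1 : U ≤ N_(E)) (h2 : U ≤ N_(F ⊔ zz E)) : ⁅F, U⁆ ≤ zz E := by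
  obtain ⟨k, hk, k1, k2⟩ := fx (B := zz E) hU _ (pg_le m.pg (m.fbE a hF)) h2 fun k =>
    a.ne (by rw [← a.cF, eq_comm, inf_eq_left]; exact fun x hx => m.zR (k (mem_sup_left hx)))
  exact commutator_le.2 fun f hf u hu =>
    (m.irr2 a hF (m.h.two_le hU hu) (h1 hu) hk ⟨m.fbE a hF hk, k2 u hu⟩ k1 hf).2
end

theorem st2 (h2 : IsPGroup 2 (zpowers u)) (hu : u ∈ N_(E)) (hz : u ∈ C_(zz E)) (h0 : ¬ E ≤ kc E u) :
    ∃ F, Fa p r G R F ∧ F ≤ E ∧ kc E u = F ⊔ zz E ∧ ∀ v ∈ E, ⁅v, u⁆ ∈ F ⊔ zz E := by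
  have hG := m.h.two_le h2 (mem_zpowers u)
  have rK := m.rk hG hu
  have w : ∀ v ∈ E, ⁅v, u⁆ ∈ E ⊓ C_(kc E u) := fun v hv => ⟨cm_mem hu hv, mem_cent.2 fun k hk => by
    have wE := cm_mem hu hv
    have e1 := mem_cent.1 hz _ (m.cz hv hk.1)
    have c1 : Commute ⁅k, u⁆⁻¹ (⁅v, u⁆⁻¹ * v) := (Commute.symm (zc hk.2 (mul_mem (inv_mem wE) hv))).inv_left
    have c2 : Commute ⁅k, u⁆⁻¹ k := (Commute.symm (zc hk.2 hk.1)).inv_left
    have e2 : u * ⁅v, k⁆ * u⁻¹ = ⁅⁅v, u⁆⁻¹ * v, ⁅k, u⁆⁻¹ * k⁆ := by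
      rw [conjugate_commutatorElement]; congr 1 <;> (rw [commutatorElement_def]; group)
    have e3 := zc (m.cz hv hk.1) wE
    rw [← e1, mul_inv_cancel_right] at e2
    generalize ⁅k, u⁆⁻¹ = b at c1 c2 e2
    generalize ⁅v, u⁆ = w at c1 e2 e3 ⊢
    have e4 : ⁅w⁻¹ * v, b * k⁆ = w⁻¹ * (⁅v, k⁆ * w) * (w⁻¹ * k * w * k⁻¹) := by
      calc ⁅w⁻¹ * v, b * k⁆ = (w⁻¹ * v * b) * k * (w⁻¹ * v)⁻¹ * (b * k)⁻¹ := by rw [commutatorElement_def]; group
        _ = b * ((w⁻¹ * v) * k * (w⁻¹ * v)⁻¹ * k⁻¹) * b⁻¹ := by rw [← c1.eq]; group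
        _ = _ := by
          rw [(((c1.mul_right c2).mul_right c1.inv_right).mul_right c2.inv_right).eq, commutatorElement_def]; group
    rw [e4, ← e3, inv_mul_cancel_left, left_eq_mul] at e2
    calc k * w = w * (w⁻¹ * k * w * k⁻¹) * k := by group
      _ = w * k := by rw [e2, mul_one]⟩
  obtain ⟨v, hv, v0⟩ := SetLike.not_le_iff_exists.1 h0
  have nW : R ≤ N_(E ⊓ C_(kc E u)) := norm_inf m.nE (norm_cent rK)
  obtain ⟨k, hk, k1, k2⟩ := fx (B := zz E) h2 _ (pg_le m.pg inf_le_left)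
    (zpowers_le.2 (norm_inf (A := zpowers u) (zpowers_le.2 hu) (norm_cent (zpowers_le.2 (nk hu rfl))) (mem_zpowers u)))
    fun k => v0 ⟨hv, k (w v hv)⟩
  have n := norm_inf nW rK
  have l := comm_le_left n
  have a := m.mkF (inf_le_right.trans kc_le) n (le_cent_mono inf_le_right inf_le_left inf_le_right)
    fun e => k1 (m.zof hk.1 (e ⟨hk, hk.1, k2 u (mem_zpowers u)⟩))
  have hF := l.trans (inf_le_right.trans kc_le)
  refine ⟨_, a, hF, le_antisymm (m.cE a hF kc_le (cent_symm (l.trans (inf_le_left.trans inf_le_right))))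
    (sup_le (l.trans inf_le_right) (z_kc hu)), fun v hv => ?_⟩
  exact m.cE a hF inf_le_left (inf_le_right.trans (cent_anti (l.trans inf_le_right))) (w v hv)

theorem g1 (hx : x ∈ N_(E)) (h2 : x * x = 1) (hs : ∀ f ∈ E, f * x = x * f → f * f = 1) :
    ∃ F, Fa p r G R F ∧ F ≤ E ∧ F ≤ C_[x] := by
  have hG := m.h.two_le (pgz h2) (mem_zpowers x)
  have rK := m.rk hG hx
  obtain ⟨k, hk, k1, k2⟩ := fx (B := zz E) (pgz h2) _ m.pg (zpowers_le.2 hx) m.nlz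
  have K0 : ¬ kc E x ≤ C_(R) := fun e => k1 (m.zof hk (e ⟨hk, k2 x (mem_zpowers x)⟩))
  have l := comm_le_left rK
  have lE := l.trans kc_le
  obtain ⟨e, he, t, ht, tF, rfl⟩ : ∃ e ∈ ⁅kc E x, R⁆, ∃ t ∈ C_(R), ⁅kc E x, R⁆ ≤ C_[t] ∧ e * t = x := by
    obtain ⟨e, he, t, ht, tN, rfl⟩ := m.dec hG hx
    have t2 : t * t = (e * (t * e * t⁻¹))⁻¹ := by
      refine eq_inv_of_mul_eq_one_right ?_
      rw [← h2]; group
    have tz : t * t ∈ zz E := m.zof (t2 ▸ inv_mem (mul_mem he (conj_mem_of_norm tN he))) (mul_mem ht ht)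
    have eK : e ∈ kc E (e * t) := by
      refine ⟨he, ?_⟩
      have : ⁅e, e * t⁆ = e * (e * (t * t) * e) * e⁻¹ := by rw [t2, commutatorElement_def]; group
      rw [this, mul_assoc e (t * t), ← zc tz he]
      simpa [mul_assoc] using mul_mem (m.sqz he) (conj_mem_of_norm (nz (le_norm E he)) tz)
    obtain ⟨f, hf, b, hb, rfl⟩ := (mem_sup_norm (le_norm_of_cent (inf_le_right.trans (cent_anti lE)))).1
      (m.kdec kc_le rK eK)
    have hbt := mul_mem (m.zR hb) ht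
    refine ⟨f, hf, b * t, hbt, m.tl hbt ?_, (mul_assoc _ _ _).symm⟩
    rw [mul_assoc, m.kc_mul (lE hf)]
  have nF : R ≤ N_(⁅kc E (e * t), R⁆) := right_le_norm_comm _ _
  have cx : ∀ f ∈ ⁅kc E (e * t), R⁆, f * e = e * f → f * (e * t) = e * t * f := fun f hf h => by
    rw [← mul_assoc, h, mul_assoc, mem_cent1.1 (tF hf), mul_assoc]
  by_cases eR : e ∈ C_(R)
  · have c : ⁅kc E (e * t), R⁆ ≤ C_[e * t] := fun f hf => mem_cent1.2 (cx f hf (zc (m.zof (lE he) eR) (lE hf)))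
    have a := m.mkF lE nF (ab_of_sq fun f hf => hs f (lE hf) (mem_cent1.1 (c hf)))
      fun k => K0 (cent_symm (coprime_cent_of_comm rK (m.h.cop m.cR (kc_le.trans m.le)) (m.h.sol m.cR) k))
    exact ⟨_, a, (comm_le_left nF).trans lE, (comm_le_left nF).trans c⟩
  have e2 := hs e (lE he) (cx e he rfl)
  have c1 : ∀ s ∈ R, e * (s * e * s⁻¹) = s * e * s⁻¹ * e := by
    have c0 : ∀ s ∈ R, e * (s * s * e * (s * s)⁻¹) = s * s * e * (s * s)⁻¹ * e := fun s hs' => by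
      have m1 := conj_mem_of_norm (nF hs') he
      have m2 := conj_mem_of_norm' (nF hs') he
      have z1 := m.cz (lE he) (lE m1)
      have q1 : ⁅e, s * e * s⁻¹⁆ = ⁅s⁻¹ * e * s, e⁆ := by
        have := mem_cent.1 (m.zR z1) s hs'
        calc ⁅e, s * e * s⁻¹⁆ = s⁻¹ * (s * ⁅e, s * e * s⁻¹⁆) := by group
          _ = _ := by rw [this]; simp only [commutatorElement_def]; group
      have q2 := zc z1 (lE m1)
      have q3 : (s * e * s⁻¹ * (s⁻¹ * e * s)) * e = e * (s * e * s⁻¹ * (s⁻¹ * e * s)) := by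
        calc (s * e * s⁻¹ * (s⁻¹ * e * s)) * e = (s * e * s⁻¹ * ⁅s⁻¹ * e * s, e⁆) * e * (s⁻¹ * e * s) := by
              simp only [commutatorElement_def]; group
          _ = _ := by rw [← q1, q2]; simp only [commutatorElement_def]; group
      have q4 := hs _ (lE (mul_mem m1 m2)) (cx _ (mul_mem m1 m2) q3)
      have q5 : e⁻¹ = e := inv_eq_of_mul_eq_one_right e2
      have q6 : s * e * s⁻¹ * (s⁻¹ * e * s) = s⁻¹ * e⁻¹ * s * (s * e⁻¹ * s⁻¹) := by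
        rw [← inv_eq_of_mul_eq_one_right q4]; simp only [mul_inv_rev, inv_inv, mul_assoc]
      rw [q5] at q6
      calc e * (s * s * e * (s * s)⁻¹) = s * (s⁻¹ * e * s * (s * e * s⁻¹)) * s⁻¹ := by group
        _ = _ := by rw [← q6]; group
    intro s hs'
    have : Odd (Nat.card R) := m.cR ▸ m.h.rp.odd_of_ne_two m.h.r2
    obtain ⟨n, hn⟩ := this
    have e3 : s = s ^ (n + 1) * s ^ (n + 1) := by
      rw [← pow_add, show n + 1 + (n + 1) = Nat.card R + 1 by omega, pow_succ, pow_card_eq_one hs', one_mul]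
    have := c0 _ (pow_mem hs' (n + 1))
    rwa [← e3] at this
  set S := closure {y | ∃ s ∈ R, y = s * e * s⁻¹} with hS
  have SF : S ≤ ⁅kc E (e * t), R⁆ := (closure_le _).2 (by rintro _ ⟨s, hs', rfl⟩; exact conj_mem_of_norm (nF hs') he)
  have Se : S ≤ C_[e] := (closure_le _).2 (by rintro _ ⟨s, hs', rfl⟩; exact mem_cent1.2 (c1 s hs').symm)
  have nS : R ≤ N_(S) := le_norm_of_cj_le fun s hs' => by
    rw [cj_eq_map, hS, MonoidHom.map_closure, closure_le]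
    rintro _ ⟨_, ⟨s', h', rfl⟩, rfl⟩
    exact subset_closure ⟨s * s', mul_mem hs' h', by simp [mul_assoc]⟩
  have ab : S ≤ C_(S) := (closure_le _).2 (by
    rintro _ ⟨s, hs', rfl⟩
    rw [SetLike.mem_coe, ← le_cent1_iff, ← cj_cent1, ← cj_of_mem_norm (nS hs')]
    exact cj_mono s Se)
  have a := m.mkF (SF.trans lE) nS ab fun k => eR (k (subset_closure ⟨1, one_mem _, by simp⟩))
  exact ⟨_, a, (comm_le_left nS).trans (SF.trans lE), (comm_le_left nS).trans fun f hf =>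
    mem_cent1.2 (cx f (SF hf) (mem_cent1.1 (Se hf)))⟩
end Nb
end Cfsg.Agent.H06.HS
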