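import Cfsg.Agent.H06.HS2
set_option autoImplicit false
set_option linter.unusedSectionVars false
open Cfsg BG Subgroup
open scoped commutatorElement
universe u
namespace Cfsg.Agent.H06.HS
open Cfsg.Agent.H06.FV (PCl pr2 zz nz zc kc kc_le cm_mem cm_mem' z_kc nk cm1 kc_of fx ab_of_sq pgz inv_cm cm_cm)
variable {Γ : Type u} [Group Γ] [Finite Γ] {p r q : ℕ} {G R R₁ H K X E E₁ P D F F₁ C A U B : Subgroup Γ}
  {x y u t f g b e : Γ}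

theorem pcent (cc : ⁅K, R⁆ = K) (e : K = P ⊔ E) (nP : K ≤ N_(P)) (c : P ≤ C_(R)) (nE : R ≤ N_(E)) : K ≤ E := by
  have k : K ≤ C_(P) := cc.ge.trans ((comm_mono le_rfl (cent_symm c)).trans (comm_le_right (norm_cent nP)))
  have k2 : P ≤ C_(E) := cent_symm ((le_sup_right.trans e.ge).trans k)
  rw [← cc, e, sup_comm, comm_sup_cent c (norm_comm (le_norm_of_cent k2) (le_norm_of_cent c))]
  exact comm_le_left nE

namespace Nb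
variable [L : Fact (L5 p r G)] (m : Nb p r G R E)
include m

theorem xy (m₁ : Nb p r G R₁ E₁) (ne : E₁ ≠ E) (hx : x ∈ zz E₁) (xN : x ∈ N_(E)) (hy : y ∈ zz E) (yN : y ∈ N_(E₁)) :
    x * y = y * x := cm1.1 (m.ti m₁ ne (cm_mem' (nz xN) hy) (cm_mem (nz yN) hx))

theorem halfC (m₁ : Nb p r G R E₁) (ne : E₁ ≠ E) (a : Fa p r G R F) (hF : F ≤ E) (hF₁ : F ≤ E₁)
    (h0 : ∃ x ∈ zz E₁, x ≠ 1 ∧ x ∈ N_(E)) : E ≤ N_(F ⊔ ((zz E₁ ⊓ N_(E)) ⊔ (zz E ⊓ N_(E₁)))) := by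
  have w : ∀ x ∈ zz E₁, x ≠ 1 → x ∈ N_(E) → ∀ e ∈ E, ⁅e, x⁆ ∈ F ⊔ zz E := fun x hx x1 xN e he => by
    have rK := m.rk (m₁.zG hx) xN
    have l := comm_le_left rK
    have c := m.tl (m₁.zR hx) (le_refl (kc E x))
    have G0 := l.trans (kc_le.trans m.le)
    have l1 : ⁅kc E x, R⁆ ≤ E₁ :=
      (m.h.cc m.cR (kc_le.trans m.le) rK).ge.trans (m₁.cX G0 (m₁.cb' hx x1 G0 c))
    have l2 : ⁅kc E x, R⁆ ≤ C_(F) := le_cent_iff.2 fun u hu v hv =>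
      cm1.1 (m.ti m₁ ne (m.cz (kc_le (l hu)) (hF hv)) (m₁.cz (l1 hu) (hF₁ hv)))
    refine (m.kdec kc_le rK).trans (sup_le (m.cE a hF (l.trans kc_le) l2) le_sup_right) ⟨cm_mem xN he, ?_⟩
    have : ⁅⁅e, x⁆, x⁆ = ⁅e, x⁆ * (x * ⁅e, x⁆ * x⁻¹)⁻¹ := by simp only [commutatorElement_def]; group
    rw [this, inv_cm (m₁.zsq hx), inv_inv]
    exact m.sqz (cm_mem xN he)
  have s : ∀ {S T : Subgroup Γ}, ⁅S, E⁆ ≤ T → ∀ {S'}, ⁅S', E⁆ ≤ T → S ≤ T → S' ≤ T → ⁅S ⊔ S', E⁆ ≤ T :=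
    fun h1 _ h2 k1 k2 => comm_sup_le (norm_of_le k1) (norm_of_le k2) h1 h2
  refine le_norm_of_comm_le (s (commutator_le.2 fun f hf e he => ?_) (s (commutator_le.2 fun x hx e he => ?_)
    (commutator_le.2 fun y hy e he => ?_) (le_sup_left.trans le_sup_right) (le_sup_right.trans le_sup_right))
    le_sup_left le_sup_right)
  · obtain ⟨x, hx, x1, xN⟩ := h0
    have z := m.cz he (hF hf)
    rw [← commutatorElement_inv]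
    refine inv_mem (mem_sup_right (mem_sup_right ⟨z, m₁.cb hx x1 (m.zG z) ?_⟩))
    have w1 := w x hx x1 xN e he
    have c1 := mem_cent.1 (m.fbc a hF w1) f hf
    have c2 := zc z (m.fbE a hF w1)
    have c3 : x * f * x⁻¹ = f := by rw [← zc hx (hF₁ hf), mul_inv_cancel_right]
    have c4 : x * e * x⁻¹ = ⁅e, x⁆⁻¹ * e := by rw [commutatorElement_def]; group
    rw [eq_comm, ← mul_inv_eq_iff_eq_mul, conjugate_commutatorElement, c3, c4]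
    generalize ⁅e, x⁆ = w at c1 c2
    calc ⁅w⁻¹ * e, f⁆ = w⁻¹ * (⁅e, f⁆ * (f * w)) * f⁻¹ := by simp only [commutatorElement_def]; group
      _ = _ := by rw [c1, ← mul_assoc ⁅e, f⁆, ← c2]; group
  · rw [← commutatorElement_inv]
    refine inv_mem ?_
    by_cases x1 : x = 1
    · simp [x1]
    have w1 := w x hx.1 x1 hx.2 e he
    have c := cm_cm (m₁.zsq hx.1) (m.fbsq a hF w1)
    obtain ⟨k, hk, b, hb, e1⟩ := m.fbm a hF w1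
    rw [← e1] at c ⊢
    refine mul_mem (mem_sup_left hk) (mem_sup_right (mem_sup_right ⟨hb, m₁.cb hx.1 x1 (m.zG hb) ?_⟩))
    rw [← mul_assoc, ← zc hx.1 (hF₁ hk), mul_assoc, mul_assoc] at c
    exact mul_left_cancel c
  · rw [cm1.2 (zc hy.1 he).symm]; exact one_mem _

theorem confC (m₁ : Nb p r G R E₁) (a : Fa p r G R F) (hF : F ≤ E) (hF₁ : F ≤ E₁) (hx : x ∈ zz E₁) (x1 : x ≠ 1)
    (hy : y ∈ zz E) (y1 : y ≠ 1) (c : x * y = y * x) : E₁ = E := by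
  by_contra ne
  have h1 := m.halfC m₁ ne a hF hF₁ ⟨x, hx, x1, m.cb hy y1 (m₁.zG hx) c⟩
  have h2 := m₁.halfC m (Ne.symm ne) a hF₁ hF ⟨y, hy, y1, m₁.cb hx x1 (m.zG hy) c.symm⟩
  rw [sup_comm (zz E ⊓ N_(E₁))] at h2
  have l : (zz E₁ ⊓ N_(E)) ⊔ (zz E ⊓ N_(E₁)) ≤ C_(F) :=
    sup_le (inf_le_left.trans (m₁.fz a hF₁)) (inf_le_left.trans (m.fz a hF))
  have pA : IsPGroup 2 ↥(F ⊔ ((zz E₁ ⊓ N_(E)) ⊔ (zz E ⊓ N_(E₁)))) :=
    pg_sup a.pg (pg_sup (pg_le m₁.zpg inf_le_left) (pg_le m.zpg inf_le_left) (le_norm_of_cent (le_cent_iff.2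
      fun y hy x hx => (m.xy m₁ ne hx.1 hx.2 hy.1 hy.2).symm))) (le_norm_of_cent l)
  exact ne (m.wc m₁.toMx ((le_inf m₁.le h2).trans (m.nA pA (ne_bot_mono a.ne le_sup_left)
    (norm_sup a.nF (le_norm_of_cent (cent_symm (sup_le (fun _ h => m₁.zR h.1) fun _ h => m.zR h.1)))) h1)))

theorem beta (m₁ : Nb p r G R₁ E₁) (a : Fa p r G R F) (a₁ : Fa p r G R₁ F₁) (hF : F ≤ E) (hF₁ : F₁ ≤ E₁)
    (hx : x ∈ zz E₁) (x1 : x ≠ 1) (hy : y ∈ zz E) (y1 : y ≠ 1) (c : x * y = y * x) (c1 : F ≤ C_(F₁)) (c2 : F ≤ C_[x])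
    (c3 : F₁ ≤ C_[y]) : E₁ = E := by
  have h := m.h
  obtain ⟨A, hA⟩ : ∃ A, A = (F ⊔ F₁) ⊔ (zpowers x ⊔ zpowers y) := ⟨_, rfl⟩
  have FA : F ≤ A := hA ▸ le_sup_left.trans le_sup_left
  have FA₁ : F₁ ≤ A := hA ▸ le_sup_right.trans le_sup_left
  have xA : x ∈ A := hA ▸ mem_sup_right (mem_sup_left (mem_zpowers x))
  have yA : y ∈ A := hA ▸ mem_sup_right (mem_sup_right (mem_zpowers y))
  have AF : A ≤ C_(F) := hA ▸ sup_le (sup_le a.ab (cent_symm c1))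
    (sup_le (zpowers_le.2 (le_cent1_iff.1 c2)) (zpowers_le.2 (m.fz a hF hy)))
  have AF₁ : A ≤ C_(F₁) := hA ▸ sup_le (sup_le c1 a₁.ab)
    (sup_le (zpowers_le.2 (m₁.fz a₁ hF₁ hx)) (zpowers_le.2 (le_cent1_iff.1 c3)))
  have Ay : A ≤ C_[y] := hA ▸ sup_le (sup_le (le_cent1_iff.2 (m.fz a hF hy)) c3)
    (sup_le (zpowers_le.2 (mem_cent1.2 c)) (zpowers_le_cent1 y))
  have pA : IsPGroup 2 A := hA ▸ pg_sup (pg_sup a.pg a₁.pg (le_norm_of_cent (cent_symm c1)))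
    (pg_sup (pgz (m₁.zsq hx)) (pgz (m.zsq hy)) (le_norm_of_cent (by
      rw [cent_zpowers]; exact zpowers_le.2 (mem_cent1.2 c.symm))))
    (le_norm_of_cent (le_cent_sup (le_trans (hA ▸ le_sup_right) AF) (le_trans (hA ▸ le_sup_right) AF₁)))
  have AG := h.two_le pA
  have e1 : ⁅A, R⁆ = F := le_antisymm (a.h2 AG AF) (a.cc.ge.trans (comm_mono FA le_rfl))
  have e2 : ⁅A, R₁⁆ = F₁ := le_antisymm (a₁.h2 AG AF₁) (a₁.cc.ge.trans (comm_mono FA₁ le_rfl))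
  have n1 : R ≤ N_(A) := le_norm_of_comm_le (e1.le.trans FA)
  have n2 : R₁ ≤ N_(A) := le_norm_of_comm_le (e2.le.trans FA₁)
  have nH : R ≤ N_(G ⊓ N_(A)) := norm_inf (h.nm R) (norm_norm n1)
  have AH : A ≤ G ⊓ N_(A) := le_inf AG (le_norm A)
  obtain ⟨P, D, sP, nP, sD, -, nD, eD⟩ := h.two_of m.cR (h.lt_norm AG (ne_bot_mono a.ne FA) pA pr2) nH pA AH n1
  have pD := sD.pg pr2
  have PH := sP.le.trans (comm_le_left nH)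
  have PG := PH.trans inf_le_left
  have eD : ⁅G ⊓ N_(A), R⁆ = ⁅D, R⁆ := by
    have k : P ≤ C_(A) := le_cent_of_coprime (PH.trans inf_le_right) (AH.trans ((left_le_norm_comm _ R).trans nP))
      (pg_coprime_ne h.pp pr2 (sP.pg h.pp) pA h.p2)
    have k2 : ⁅P, R⁆ ≤ P ⊓ F := le_inf (comm_le_left ((right_le_norm_comm _ R).trans nP)) (a.h2 PG (k.trans (cent_anti FA)))
    rw [BG.inf_eq_bot_of_coprime (pg_coprime_ne h.pp pr2 (sP.pg h.pp) a.pg h.p2)] at k2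
    exact le_antisymm (pcent (h.cc m.cR inf_le_left nH) eD ((le_norm _).trans nP) (comm_eq_bot.1 (le_bot_iff.1 k2))
      (right_le_norm_comm _ _)) (comm_mono sD.le le_rfl)
  obtain ⟨E', m', lE⟩ := Mx.sup h m.cR pD nD
  rw [← eD] at lE
  obtain ⟨k, hk, rfl⟩ := h.conjR m.cR m₁.cR n1 n2
  obtain ⟨e, he, t, ht, rfl⟩ := h.dec' m.cR inf_le_left nH hk
  have eH := comm_le_left nH he
  rw [cj_mul_of_mem_norm (cent_le_norm _ ht.2)] at m₁ a₁ e2 n2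
  have m₂ := m₁.cj e⁻¹
  rw [cj_cj, inv_mul_cancel, cj_of_mem (one_mem _)] at m₂
  have e3 : F₁ = BG.cj e F := by rw [← e2, ← e1, cj_comm, cj_of_mem_norm eH.2]
  have x2 : e⁻¹ * x * e ∈ zz (BG.cj e⁻¹ E₁) := by
    rw [zz, ← cj_cent, ← cj_inf]; simpa using conj_mem_cj e⁻¹ hx
  have e4 := m.confC m₂ a hF (by rw [le_cj_iff, inv_inv, ← e3]; exact hF₁) x2
    (fun k => x1 (by rw [mul_assoc, inv_mul_eq_one] at k; simpa using k.symm)) hy y1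
    (mem_cent1.1 (Ay (conj_mem_of_norm' eH.2 xA)))
  rw [cj_eq_iff, inv_inv] at e4
  rw [e4]
  refine cj_of_mem ?_
  have FH : F ≤ ⁅G ⊓ N_(A), R⁆ := e1.ge.trans (comm_mono AH le_rfl)
  by_cases k : ⁅G ⊓ N_(A), R⁆ ≤ C_(F)
  · exact hF (a.h2 (h.cG inf_le_left) k ((h.cc m.cR inf_le_left nH).ge he))
  · rw [le_cent_iff] at k
    push Not at k
    obtain ⟨u, hu, v, hv, k⟩ := k
    have n' : Nb p r G R E' := ⟨m', fun c => k (le_cent_iff.1 c _ (lE hu) _ (lE (FH hv)))⟩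
    exact (m.confC n' a hF (FH.trans lE) (n'.cz (lE hu) (lE (FH hv))) (mt cm1.1 k) hy y1
      (mem_cent1.1 (Ay (cm_mem' (comm_le_left nH hu).2 (FA hv))))).le (lE he)

theorem sz (m₁ : Nb p r G R₁ E₁) (h : zz E₁ ≤ N_(E)) : zz E ≤ N_(E₁) := by
  by_contra k
  obtain ⟨b, hb, b0⟩ := SetLike.not_le_iff_exists.1 k
  have lt : zz E ⊓ N_(E₁) < zz E := lt_of_le_of_ne inf_le_left fun e => k (inf_eq_left.1 e)
  have e1 : Nat.card (zz E₁) = Nat.card (zz E) := by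
    obtain ⟨g, -, -, rfl⟩ := m.conj m₁.toMx
    rw [zz, ← cj_cent, ← cj_inf]; simp
  refine (card_lt lt).not_ge (e1 ▸ Nat.card_le_card_of_injective (fun x : zz E₁ => (⟨⁅b, x.1⁆, ?_⟩ : ↥(zz E ⊓ N_(E₁)))) ?_)
  · have z := cm_mem (nz (h x.2)) hb
    refine ⟨z, ?_⟩
    by_cases x1 : x.1 = 1
    · simp [x1]
    · exact m₁.cb x.2 x1 (m.zG z) (cm_cm (m₁.zsq x.2) (m.zsq z))
  · intro x y e
    have e : ⁅b, x.1⁆ = ⁅b, y.1⁆ := congrArg Subtype.val e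
    by_contra k
    refine b0 (m₁.cb (mul_mem (inv_mem y.2) x.2) (fun e => k (Subtype.ext (inv_mul_eq_one.1 e).symm)) (m.zG hb) ?_)
    calc b * (y.1⁻¹ * x.1) = b * y.1⁻¹ * b⁻¹ * ⁅b, x.1⁆ * x.1 * b := by rw [commutatorElement_def]; group
      _ = _ := by rw [e, commutatorElement_def]; group

theorem ng1 (m₁ : Nb p r G R₁ E₁) (ne : E₁ ≠ E) (hx : x ∈ zz E₁) (x1 : x ≠ 1) (hf : f ∈ E) (c : f * x = x * f)
    (f1 : f * f ≠ 1) : zz E ≤ N_(E₁) := by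
  by_contra k
  have fN := m₁.cb hx x1 (m.le hf) c
  have hy := m.sqz hf
  have l : ∀ u ∈ zz E₁, u * (f * f) = f * f * u → u ∈ C_[f] := fun u hu cu => mem_cent1.2 (cm1.1 (by
    by_contra w1
    exact k (m₁.cb' (cm_mem (nz fN) hu) w1 m.zG (le_cent1_iff.2 (mem_cent.2 fun b hb =>
      (zc hb (cm_mem' (m.cb hy f1 (m₁.zG hu) cu) hf)).symm)))))
  have l2 : zz E₁ ≤ C_[f] := by
    by_contra k2
    obtain ⟨u, hu, u1, u2⟩ := fx (pg_le m.pg (zpowers_le.2 hf)) _ m₁.zpg (zpowers_le.2 (nz fN)) k2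
    refine u1 (l u hu (cm1.1 ?_))
    have e1 := mem_cent1.1 (u2 f (mem_zpowers f))
    calc ⁅u, f * f⁆ = ⁅u, f⁆ * (f * ⁅u, f⁆) * f⁻¹ := by simp only [commutatorElement_def]; group
      _ = 1 := by rw [← e1, ← mul_assoc, m₁.zsq (cm_mem (nz fN) hu)]; group
  exact k (m.sz m₁ (m.cb' hy f1 m₁.zG (l2.trans (by simpa [pow_two] using cent1_le_cent1_pow f 2))))

theorem ng2 (m₁ : Nb p r G R₁ E₁) (ne : E₁ ≠ E) (hx : x ∈ zz E₁) (x1 : x ≠ 1) (xN : x ∈ N_(E))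
    (ha : ∀ x ∈ zz E₁, x ≠ 1 → x ∈ N_(E) → ∃ f ∈ E, f * x = x * f ∧ f * f ≠ 1) : False := by
  obtain ⟨f, hf, c, f1⟩ := ha x hx x1 xN
  have Y := m.ng1 m₁ ne hx x1 hf c f1
  have X := m₁.sz m Y
  have tv : ∀ u ∈ zz E₁, E ≤ kc E u := fun u hu => by
    by_cases u1 : u = 1
    · exact fun v hv => kc_of hv (by simp [u1])
    by_contra k
    obtain ⟨F, a, hF, e1, -⟩ := m.st2 (pgz (m₁.zsq hu)) (X hu)
      (mem_cent.2 fun b hb => (m.xy m₁ ne hu (X hu) hb (Y hb)).symm) k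
    obtain ⟨g, hg, c, g1⟩ := ha u hu u1 (X hu)
    exact g1 (m.fbsq a hF (e1.le (kc_of hg c)))
  have fN := m₁.cb hx x1 (m.le hf) c
  have fz : f ∈ C_(zz E₁) := mem_cent.2 fun u hu =>
    (cm1.1 (m.ti m₁ ne (tv u hu hf).2 (cm_mem' (nz fN) hu))).symm
  have hy := m.sqz hf
  have dn : f * f ∉ C_(E₁) := fun k => ne (m.eq_of m₁ hy f1 k)
  by_cases k : E₁ ≤ kc E₁ f
  · obtain ⟨e, he, t, ht, rfl⟩ := m₁.tr (m.le hf) fN k
    refine dn ?_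
    rw [mul_assoc, ← mul_assoc t, ← mem_cent.1 ht e he, mul_assoc, ← mul_assoc]
    exact mul_mem (m₁.sqz he).2 (mul_mem ht ht)
  obtain ⟨F₁, a₁, hF₁, k1, k2⟩ := m₁.st2 (pg_le m.pg (zpowers_le.2 hf)) fN fz k
  have ty : E₁ ≤ kc E₁ (f * f) := fun v hv => ⟨hv, by
    have w := k1.ge (k2 v hv)
    have : ⁅v, f * f⁆ = ⁅v, f⁆ * ⁅⁅v, f⁆, f⁆⁻¹ * ⁅v, f⁆⁻¹ * (⁅v, f⁆ * ⁅v, f⁆) := by
      simp only [commutatorElement_def]; group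
    rw [this]
    exact mul_mem (conj_mem_of_norm (nz (le_norm _ w.1)) (inv_mem w.2)) (m₁.sqz w.1)⟩
  obtain ⟨e, he, t, ht, ey⟩ := m₁.tr (m.zG hy) (Y hy) ty
  have e0 : e ∉ zz E₁ := fun k => dn (ey ▸ mul_mem k.2 ht)
  have eF : e ∈ F₁ ⊔ zz E₁ := k1.le (tr2 he ht fN (by rw [ey, mul_assoc]))
  have Fy : F₁ ≤ C_[f * f] := le_cent1_iff.2 (ey ▸ mul_mem (m₁.fbc a₁ hF₁ eF) (cent_anti hF₁ ht))
  have FN := m.cb' hy f1 a₁.le Fy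
  by_cases k3 : F₁ ≤ C_[f]
  · obtain ⟨e', he', t', ht', rfl⟩ := m.h.dec' m₁.cR inf_le_left (norm_inf (m.h.nm R₁) (norm_cent a₁.nF))
      ⟨m.le hf, le_cent1_iff.1 k3⟩
    have e1 := a₁.h2 inf_le_left inf_le_right he'
    refine dn (m₁.tl' ?_ ty)
    rw [mul_assoc, ← mul_assoc t', ← mem_cent.1 ht'.1.2 e' e1, mul_assoc, ← mul_assoc, a₁.sq e1, one_mul]
    exact mul_mem ht'.2 ht'.2
  obtain ⟨u, hu, u1⟩ := SetLike.not_le_iff_exists.1 k3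
  have z1 : ⁅u, f⁆ ∈ zz E₁ := (k1.ge (mem_sup_left hu)).2
  have z0 : ⁅u, f⁆ ≠ 1 := fun k => u1 (mem_cent1.2 (cm1.1 k))
  have BF := m₁.irr a₁ hF₁ m.zpg Y (fun b hb => k1 ▸ nk (Y hb) (zc hb hf).symm)
  obtain ⟨F, a, hF, k4, k5⟩ := m.st2 (pgz (a₁.sq hu)) (FN hu) (mem_cent.2 fun b hb =>
    (cm1.1 (m.ti m₁ ne (cm_mem' (nz (FN hu)) hb) (BF (commutator_mem_commutator hu hb)))).symm)
    fun k => z0 (m.ti m₁ ne (by rw [← commutatorElement_inv]; exact inv_mem (k hf).2) z1)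
  have Fx : F ≤ C_[⁅u, f⁆] := le_cent1_iff.2 (by rw [← commutatorElement_inv]; exact inv_mem (m.fbc a hF (k5 f hf)))
  have FN₁ := m₁.cb' z1 z0 a.le Fx
  have c1 := m.irr a hF a₁.pg FN (fun v hv => k4 ▸ nk (FN hv) (le_cent_iff.1 a₁.ab v hv u hu))
  refine ne (m.beta m₁ a a₁ hF hF₁ z1 z0 hy f1 (m.xy m₁ ne z1 (X z1) hy (Y hy)) (le_cent_iff.2 fun g hg v hv => cm1.1
    (m.ti m₁ ne (c1 (commutator_mem_commutator hg hv)) ?_)) Fx Fy)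
  rw [← commutatorElement_inv]
  exact inv_mem (m₁.irr2 a₁ hF₁ (a.le hg) (FN₁ hg) eF (tr2 he ht (FN₁ hg) (by rw [ey]; exact zc hy (hF hg))) e0 hv).2

theorem halfG (a : Fa p r G R F) (hF : F ≤ E) (c : F ≤ C_[x]) (hs : ∀ f ∈ E, f * x = x * f → f * f = 1)
    (hU : IsPGroup 2 U) (h1 : U ≤ N_(E)) (h2 : U ≤ C_[x]) : ⁅F, U⁆ ≤ zz E := by
  have l : F ≤ E ⊓ C_[x] := le_inf hF c
  have e1 : F ⊔ zz E = (E ⊓ C_[x]) ⊔ zz E := le_antisymm (sup_le_sup_right l _) (sup_le (m.cE a hF inf_le_left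
    ((ab_of_sq (K := E ⊓ C_[x]) fun f hf => hs f hf.1 (mem_cent1.1 hf.2)).trans (cent_anti l))) le_sup_right)
  exact m.irr a hF hU h1 (e1 ▸ norm_sup (norm_inf h1 (norm_cent1 h2)) fun _ h => nz (h1 h))

theorem main (m₁ : Nb p r G R₁ E₁) (hx : x ∈ zz E₁) (x1 : x ≠ 1) (xN : x ∈ N_(E)) : E₁ = E := by
  by_contra ne
  by_cases ha : ∀ x ∈ zz E₁, x ≠ 1 → x ∈ N_(E) → ∃ f ∈ E, f * x = x * f ∧ f * f ≠ 1
  · exact m.ng2 m₁ ne hx x1 xN ha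
  by_cases hb : ∀ x ∈ zz E, x ≠ 1 → x ∈ N_(E₁) → ∃ f ∈ E₁, f * x = x * f ∧ f * f ≠ 1
  · obtain ⟨y, hy, y1⟩ := exists_mem_ne_one (pg_fix_ne_bot pr2 (pgz (m₁.zsq hx)) m.zpg (zpowers_le.2 (nz xN))
      (pg_center_ne_bot pr2 m.pg m.ne))
    exact m₁.ng2 m (Ne.symm ne) hy.1 y1 (m₁.cb hx x1 (m.zG hy.1) (mem_cent.1 hy.2 x (mem_zpowers x)).symm) hb
  push Not at ha hb
  obtain ⟨x, hx, x1, xN, hs⟩ := ha
  obtain ⟨y, hy, y1, yN, hs₁⟩ := hb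
  obtain ⟨F, a, hF, c⟩ := m.g1 xN (m₁.zsq hx) hs
  obtain ⟨F₁, a₁, hF₁, c₁⟩ := m₁.g1 yN (m.zsq hy) hs₁
  have k := m.halfG a hF c hs a₁.pg (m.cb' hy y1 a₁.le c₁) (le_cent1_iff.2 (m₁.fz a₁ hF₁ hx))
  have k₁ := m₁.halfG a₁ hF₁ c₁ hs₁ a.pg (m₁.cb' hx x1 a.le c) (le_cent1_iff.2 (m.fz a hF hy))
  rw [comm_comm] at k₁
  exact ne (m.beta m₁ a a₁ hF hF₁ hx x1 hy y1 (m.xy m₁ ne hx xN hy yN) (le_cent_iff.2 fun g hg v hv => cm1.1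
    (m.ti m₁ ne (k (commutator_mem_commutator hg hv)) (k₁ (commutator_mem_commutator hg hv)))) c c₁)
end Nb
end Cfsg.Agent.H06.HS
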