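import Cfsg.Agent.H06.HS3
import Cfsg.Agent.H06.FV4
set_option autoImplicit false
set_option linter.unusedSectionVars false
open Cfsg BG Subgroup H07.GD
open scoped commutatorElement
universe u
namespace Cfsg.Agent.H06.HS
open Cfsg.Agent.H06.FV (PCl pr2 zz nz zc kc kc_le cm_mem cm_mem' z_kc nk cm1 kc_of fx ab_of_sq pgz arith)
variable {Γ : Type u} [Group Γ] [Finite Γ] {p r q : ℕ} {G R R₁ H K X E E₁ P D F F₁ C A U B : Subgroup Γ}
  {x y u t f g b e : Γ}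

namespace Hq
variable (h : Hq p r G)
include h
theorem c0 : C_(G) = ⊥ := by
  have d : G ⊓ C_(G) = ⊥ := (h.simp' inf_le_left (le_norm_inf_cent (le_norm G))).resolve_right
    fun e => h.na (abelian_iff.2 (inf_eq_left.1 e))
  have := card_dvd_top (G ⊔ C_(G))
  rw [card_sup_of_disj (h.nm _) d, h.cardT] at this
  rcases (Nat.dvd_prime h.rp).1 (Nat.dvd_of_mul_dvd_mul_left (card_pos G) this) with e | e
  · exact BG.card_eq_one.1 e
  · exact absurd (cent_symm le_rfl) (h.nc _ e)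
theorem o0 : H23.GW.oo (⊤ : Subgroup Γ) = ⊥ := by
  have n : ∀ X : Subgroup Γ, X ≤ N_(H23.GW.oo ⊤) := fun X => le_top.trans (le_norm_pcore _ _)
  have d := (h.simp' (X := H23.GW.oo ⊤ ⊓ G) inf_le_right (le_norm_inf' (n G))).resolve_right
    fun e => h.nsol (sol_of_le (H23.GW.oo_sol ⊤) (inf_eq_right.1 e))
  exact eq_bot_mono h.c0 (le_cent_of_disj (h.nm _) (n G) d)
theorem ac (h0 : A ≠ ⊥) : AC A G := by
  have := h.simple
  exact ⟨⟨h.nG.isSubnormal, H22.qs_of_simple h.na⟩, by rw [h.c0]; exact fun k => h0 (le_bot_iff.1 k)⟩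
theorem tr (hA : SC A) (h0 : A ≠ ⊥) : (Nat.card A - 1 ∣ Nat.card G) ∧
    ∀ u ∈ A, ∀ v ∈ A, u ≠ 1 → v ≠ 1 → ∃ x ∈ G ⊓ N_(A), x * u * x⁻¹ = v := by
  obtain ⟨X, hX, -, k, -⟩ := (full.tf h.o0 hA (h.ac h0)).ex
  have t : ∀ u ∈ A, ∀ v ∈ A, u ≠ 1 → v ≠ 1 → ∃ x ∈ G ⊓ N_(A), x * u * x⁻¹ = v := fun u hu v hv u1 v1 => by
    simp only [h.c0, mem_bot] at k
    obtain ⟨x, hx, e⟩ := k u hu v hv u1 v1
    exact ⟨x, hX hx, (eq_inv_of_mul_eq_one_left e).trans (inv_eq_of_mul_eq_one_right (hA.sq v hv))⟩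
  refine ⟨?_, t⟩
  obtain ⟨u, hu, u1⟩ := exists_mem_ne_one h0
  have e := H25.ZD.relIndex_cent (G ⊓ N_(A)) u
  have e2 : {s | ∃ g ∈ G ⊓ N_(A), g * u * g⁻¹ = s} = (A : Set Γ) \ {1} := by
    ext s
    refine ⟨?_, fun k => t u hu s k.1 u1 k.2⟩
    rintro ⟨g, hg, rfl⟩
    exact ⟨conj_mem_of_norm hg.2 hu, by simpa using u1⟩
  rw [e2, Set.ncard_diff_singleton_of_mem (one_mem A)] at e
  have e3 : (A : Set Γ).ncard = Nat.card A := rfl
  rw [← e3, ← e]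
  exact (BG.relIndex_dvd_card _ _).trans (card_dvd inf_le_left)
theorem nums (hA : SC A) (h0 : A ≠ ⊥) (hE : IsPGroup 2 E) (na : ¬ E ≤ C_(E)) :
    ∃ m, Nat.card E ∣ m ∧ (m = Nat.card A ^ 2 ∨ m = Nat.card A ^ 3) ∧ m + 1 ∣ Nat.card G := by
  have c := h.ac h0
  have ty := (full.gs h.o0 hA).ty G c
  have := c.1.2.2
  set π := QuotientGroup.mk' (center G) with hπ
  have ker : ∀ x : G, π x = 1 ↔ x.1 ∈ C_(G) := fun x => by
    rw [← MonoidHom.mem_ker, QuotientGroup.ker_mk', mem_center_iff, mem_cent]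
    exact ⟨fun k y hy => congrArg Subtype.val (k ⟨y, hy⟩), fun k y => Subtype.ext (k y y.2)⟩
  have inj : Function.Injective π := (injective_iff_map_eq_one π).2 fun x e => Subtype.ext (by
    simpa [h.c0] using (ker x).1 e)
  have EG := h.two_le hE
  have pE := (hE.comap_subtype (K := G)).map π
  have hna : ¬ H06.Ab2 (G ⧸ center G) := fun k => na (le_cent_iff.2 fun a ha b hb => congrArg Subtype.val
    (inj (a₁ := ⟨a, EG ha⟩ * ⟨b, EG hb⟩) (a₂ := ⟨b, EG hb⟩ * ⟨a, EG ha⟩) (by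
      rw [map_mul, map_mul]; exact le_cent_iff.1 (k _ pE) _ ⟨_, ha, rfl⟩ _ ⟨_, hb, rfl⟩)))
  have nc : ¬ IsMulCommutative (G ⧸ center G) := fun k => hna fun P _ => le_cent_iff.2 fun x _ y _ => k.1.1 x y
  obtain ⟨M, hM⟩ := ty.gt.resolve_left hna
  obtain ⟨Q, w, f⟩ := H17.BC.fq_simple H25.BE.bender_core nc hM
  have hS : H02.Suz.R2 _ w Q := ⟨H02.Suz.RO.of (f.rk.setup f.ev f.od), H17.BC.rk2_of_simple nc⟩
  obtain ⟨g, -, hg⟩ := sylow_subJ pr2 (H25.GL.sylQ hS) ((hA.pg.comap_subtype (K := G)).map π) le_top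
  have k : H25.GL.PD A G π _ _ _ := ⟨hA, ty, QuotientGroup.mk'_surjective _, ker, hS.conjSetup g, fun x hx => hg ⟨x, hx, rfl⟩⟩
  have e0 := k.card0
  rw [h.c0, inf_bot_eq, relIndex_bot_left] at e0
  obtain ⟨g', -, hg'⟩ := sylow_subJ pr2 (H25.GL.sylQ k.r2) pE le_top
  refine ⟨_, ?_, ?_, (Dvd.intro_left _ k.r2.card_G.symm).trans (card_quotient_dvd_card _)⟩
  · have := card_dvd hg'
    rwa [card_map_of_injective inj, comap_subtype, Nat.card_congr (subgroupOfEquivOfLe EG).toEquiv,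
      Conjg.card_eq (conjg_cj g' _)] at this
  · obtain ⟨s, r, k1⟩ := k.r2.exists_SR
    obtain ⟨-, k2 | ⟨k2, -⟩ | ⟨k2, -⟩⟩ := k.r2.concl k1
    · exact absurd (H25.GL.ab_of k.r2 k2) hna
    · exact Or.inl (e0 ▸ k2)
    · exact Or.inr (e0 ▸ k2)
end Hq

theorem Nb.fin0 (m : Nb p r G R E) (sc : SC (zz E)) (cl : ∀ a ∈ zz E, ∀ g : Γ, g * a * g⁻¹ ∈ E → g * a * g⁻¹ ∈ zz E)
    (nn : ∀ x ∈ G ⊓ N_(zz E), ∀ u ∈ zz E, ∃ y ∈ N_(E), y * u * y⁻¹ = x * u * x⁻¹) : False := by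
  classical
  have h := m.h
  have z0 : zz E ≠ ⊥ := pg_center_ne_bot pr2 m.pg m.ne
  obtain ⟨d1, tr⟩ := h.tr sc z0
  have inv : ∀ y ∈ E, y * y = 1 → y ∈ zz E := fun y hy y2 => by
    obtain ⟨l, -, hl⟩ := ((full.gs h.o0 sc).ty G (h.ac z0)).inv y (m.le hy) (y2 ▸ one_mem _)
    simpa [mul_assoc] using cl _ hl l⁻¹ (by simpa [mul_assoc] using hy)
  obtain ⟨n, k1, k2, k3⟩ := h.nums sc z0 m.pg m.na
  obtain ⟨a, ha⟩ := pg_card pr2 m.zpg
  obtain ⟨c, hc⟩ := pg_card pr2 m.pg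
  have lt : a < c := (Nat.pow_lt_pow_iff_right one_lt_two).1
    (ha ▸ hc ▸ card_lt (lt_of_le_of_ne inf_le_left fun e => m.nlz e.ge))
  obtain ⟨k, rfl⟩ := Nat.exists_eq_add_of_le lt.le
  have a0 : 0 < a := Nat.pos_of_ne_zero fun e => z0 (BG.card_eq_one.1 (by rw [ha, e, pow_zero]))
  have e0 : 2 ^ (a + k) - 2 ^ a = 2 ^ a * (2 ^ k - 1) := by rw [Nat.mul_sub_one, pow_add]
  have cp : ∀ s : ℕ, Odd s → s ∣ 2 ^ (a + k) - 2 ^ a → s ∣ 2 ^ k - 1 := fun s hs hd =>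
    (Nat.Coprime.pow_right a (Nat.coprime_two_right.2 hs)).dvd_of_dvd_mul_left (e0 ▸ hd)
  refine h.rG (arith h.rp a0 (by omega) (cp _ ?_ ?_) (cp _ (h.rp.odd_of_ne_two h.r2) ?_) (by rw [← pow_add, ← hc]; exact k1)
    (ha ▸ k2) k3 (ha ▸ d1))
  · exact Nat.Even.sub_odd (Nat.two_pow_pos a) (Nat.even_pow.2 ⟨even_two, a0.ne'⟩) odd_one
  · have := Fintype.ofFinite Γ
    obtain ⟨u, hu, u1⟩ := exists_mem_ne_one z0
    let fb : Γ → Finset Γ := fun b => (Finset.univ.filter (· ∈ E)).filter fun e => e * e = b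
    have s := Finset.card_eq_sum_card_fiberwise (f := fun e : Γ => e * e) (s := Finset.univ.filter (· ∈ E))
      (t := Finset.univ.filter (· ∈ zz E)) (fun e he => by simpa using m.sqz (by simpa using he))
    have c1 : ∀ S : Subgroup Γ, (Finset.univ.filter (· ∈ S)).card = Nat.card S := fun S => by
      rw [Nat.card_eq_fintype_card, Fintype.card_subtype]
    rw [← Finset.add_sum_erase _ _ (a := 1) (by simp), Finset.sum_const_nat (m := (fb u).card), Finset.card_erase_of_mem (by simp),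
      c1, c1, Finset.filter_filter, Finset.filter_congr (q := (· ∈ zz E)), c1, ha, hc] at s
    · exact ⟨(fb u).card, by omega⟩
    · exact fun x _ => ⟨fun k => inv x k.1 k.2, fun k => ⟨k.1, m.zsq k⟩⟩
    · intro v hv
      simp only [Finset.mem_erase, Finset.mem_filter, Finset.mem_univ, true_and] at hv
      obtain ⟨x', hx, rfl⟩ := tr u hu v hv.2 u1 hv.1
      obtain ⟨x, xN, e1⟩ := nn x' hx u hu
      rw [← e1]
      refine (Finset.card_bij (fun e _ => x * e * x⁻¹) (fun e he => ?_) (fun a _ b _ e => by simpa using e) fun e he => ?_).symm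
      · simp only [fb, Finset.mem_filter, Finset.mem_univ, true_and] at he ⊢
        exact ⟨conj_mem_of_norm xN he.1, by rw [← he.2]; group⟩
      · simp only [fb, Finset.mem_filter, Finset.mem_univ, true_and] at he ⊢
        exact ⟨x⁻¹ * e * x, ⟨conj_mem_of_norm' xN he.1, by
          rw [show x⁻¹ * e * x * (x⁻¹ * e * x) = x⁻¹ * (e * e) * x by group, he.2]; group⟩, by group⟩
  · have := H25.BE.conj_modEq h.rp (pg_of_card_eq m.cR) (S := E) fun g hg x hx => conj_mem_of_norm (m.nE hg) hx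
    rw [← coe_inf, ← m.zB] at this
    rw [← ha, ← hc]
    exact (Nat.modEq_iff_dvd' (card_le inf_le_left)).1 this.symm

theorem Mx.abel [Fact (L5 p r G)] (m : Mx p r G R E) (ab : E ≤ C_(E)) : False := by
  have h := m.h
  have a : Fa p r G R E := ⟨h, m.cR, m.pg, m.cc, m.ne, ab⟩
  have c : ∀ X : Subgroup Γ, IsPGroup 2 X → E ≤ X → X ≤ C_(E) := fun X hX hE => by
    have n := m.two_norm hX hE
    have nF : R ≤ N_(E ⊓ C_(X)) := norm_inf m.nE (norm_cent (m.nX (h.two_le hX) n hE))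
    have a' : Fa p r G R (E ⊓ C_(X)) := ⟨h, m.cR, pg_le m.pg inf_le_left, coprime_comm_eq_of_cent_bot nF
      (h.cop m.cR (inf_le_left.trans m.le)) (h.sol m.cR) (eq_bot_mono a.cF (inf_le_inf_right _ inf_le_left)),
      pg_fix_ne_bot pr2 hX m.pg n m.ne, le_cent_mono ab inf_le_left inf_le_left⟩
    exact cent_symm (m.cc.ge.trans ((a'.h2 m.le (le_cent_mono ab le_rfl inf_le_left)).trans inf_le_right))
  have sc : SC E := ⟨fun _ => a.sq, fun P hP hE x hx g hg => by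
    have m₁ := m.cj g
    have y1 := conj_mem_cj g hx
    have l1 : BG.cj g E ≤ C_[g * x * g⁻¹] := le_cent1_iff.2 ((a.cj g).ab y1)
    obtain ⟨S, hS, lS⟩ := sylow_superset pr2 m₁.pg l1
    obtain ⟨k, hk, l2⟩ := sylow_Jsub pr2 hS m.pg (le_cent1_iff.2 (c P hP hE hg))
    rw [← m₁.wc (m.cj k) (l2.trans (m₁.two_norm (hS.pg pr2) lS)), mem_cj, mul_assoc, ← mem_cent1.1 hk] at y1
    simpa using y1⟩
  exact h.rG (m.cR ▸ ((semiregular_prime (m.cR ▸ h.rp) a.cF).card_dvd m.nE).trans (h.tr sc m.ne).1)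

theorem Nb.fin [Fact (L5 p r G)] (m : Nb p r G R E) : False := by
  classical
  have h := m.h
  have z0 : zz E ≠ ⊥ := pg_center_ne_bot pr2 m.pg m.ne
  have zj : ∀ g : Γ, zz (BG.cj g E) = BG.cj g (zz E) := fun g => by rw [zz, ← cj_cent, ← cj_inf]
  have cl : ∀ a ∈ zz E, ∀ g : Γ, g * a * g⁻¹ ∈ N_(E) → g * a * g⁻¹ ∈ zz E := fun a ha g hg => by
    by_cases a1 : a = 1
    · simp [a1]
    have := conj_mem_cj g ha
    rwa [← zj, m.main (m.cj g) (zj g ▸ this) (by simpa using a1) hg] at this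
  have sc : SC (zz E) := ⟨fun _ => m.zsq, fun P hP hE a ha g hg => cl a ha g (by
    obtain ⟨D, sD, nD, e⟩ := m.ex
    obtain ⟨k, -, l⟩ := sylow_subJ pr2 sD hP (h.two_le hP)
    have l2 : P ≤ N_(BG.cj k E) := l.trans (by rw [← cj_norm, e]; exact cj_mono k (left_le_norm_comm _ _))
    obtain ⟨b, hb, b1⟩ := exists_mem_ne_one z0
    rw [← (m.cj k).main m hb b1 (l2 (hE hb))] at l2
    exact l2 hg)⟩
  exact m.fin0 sc (fun a ha g hg => cl a ha g (le_norm E hg))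
    fun x hx u _ => ⟨x, m.nA m.zpg z0 m.nZ (fun _ h => nz (le_norm E h)) hx, rfl⟩

theorem part1 (h : Hq p r G) (L : L5 p r G) : False := by
  have := Fact.mk L
  obtain ⟨R, -, hR⟩ := exists_card_eq_prime (H := (⊤ : Subgroup Γ)) h.rp (by rw [card_top, h.cardT]; exact dvd_mul_left _ _)
  obtain ⟨E, m, -⟩ := Mx.sup h hR pg_bot le_norm_bot
  exact (em _).elim m.abel fun k => Nb.fin ⟨m, k⟩
end Cfsg.Agent.H06.HS
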