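import Cfsg.Agent.H06.HS3
import Cfsg.Agent.S0058
set_option autoImplicit false
set_option linter.unusedSectionVars false
open Cfsg BG Subgroup
open scoped commutatorElement
universe u
namespace Cfsg.Agent.H06.HS
open Cfsg.Agent.H06.FV (PCl pr2 zz nz zc kc kc_le cm_mem cm_mem' z_kc nk cm1 kc_of fx ab_of_sq pgz inv_cm cm_cm)
variable {Γ : Type u} [Group Γ] [Finite Γ] {p r q : ℕ} {G R R₁ H K K₁ X E E₁ P D F F₁ C A U B : Subgroup Γ}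
  {x y u t f g b e : Γ}

/-- the central involutions of `K` -/
def bb (K : Subgroup Γ) : Subgroup Γ where
  carrier := {b | b ∈ K ∧ b ∈ C_(K) ∧ b * b = 1}
  one_mem' := ⟨one_mem _, one_mem _, mul_one _⟩
  mul_mem' {a b} ha hb := ⟨mul_mem ha.1 hb.1, mul_mem ha.2.1 hb.2.1, by
    rw [mul_assoc, ← mul_assoc b, mem_cent.1 ha.2.1 b hb.1, mul_assoc, hb.2.2, mul_one, ha.2.2]⟩
  inv_mem' {a} ha := ⟨inv_mem ha.1, inv_mem ha.2.1, by rw [← mul_inv_rev, ha.2.2, inv_one]⟩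
theorem bb_le : bb K ≤ K := fun _ h => h.1
theorem bb_c : bb K ≤ C_(K) := fun _ h => h.2.1
theorem bb_ab : bb K ≤ C_(bb K) := bb_c.trans (cent_anti bb_le)
theorem bb_pg : IsPGroup 2 (bb K) := fun x => ⟨1, Subtype.ext (by simpa [pow_two] using x.2.2.2)⟩
theorem bb_cj (g : Γ) : bb (cj g K) = cj g (bb K) := by
  ext x
  have : g⁻¹ * x * g * (g⁻¹ * x * g) = g⁻¹ * (x * x) * g := by group
  simp only [mem_cj]
  change (x ∈ cj g K ∧ x ∈ C_(cj g K) ∧ _) ↔ (_ ∧ _ ∧ _)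
  rw [← cj_cent, mem_cj, mem_cj, this, mul_eq_one_iff_eq_inv (a := g⁻¹ * (x * x)), mul_eq_left]
theorem nbb (h : g ∈ N_(K)) : g ∈ N_(bb K) := cj_eq_self_iff.1 (by rw [← bb_cj, cj_of_mem_norm h])

/-- at least two non-identity elements -/
def Nc (A : Subgroup Γ) : Prop := ∃ a ∈ A, ∃ b ∈ A, a ≠ 1 ∧ b ≠ 1 ∧ a ≠ b
theorem Nc.mono (h : Nc A) (l : A ≤ B) : Nc B := let ⟨a, ha, b, hb, k⟩ := h; ⟨a, l ha, b, l hb, k⟩
theorem Nc.cj (h : Nc A) (g : Γ) : Nc (cj g A) :=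
  let ⟨a, ha, b, hb, k⟩ := h
  ⟨_, conj_mem_cj g ha, _, conj_mem_cj g hb, by simpa using k.1, by simpa using k.2.1, by simpa using k.2.2⟩
theorem of_nc (h : ¬ Nc A) (hy : y ∈ A) (y1 : y ≠ 1) (hx : x ∈ A) : x = 1 ∨ x = y := by
  by_contra k
  push Not at k
  exact h ⟨x, hx, y, hy, k.1, y1, k.2⟩
theorem mem2 (g2 : g * g = 1) (ha : x ∈ zpowers g) (a1 : x ≠ 1) : x = g := by
  obtain ⟨n, rfl⟩ := ha
  have : g ^ n = g ^ (n % 2) := by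
    conv_lhs => rw [← Int.emod_add_mul_ediv n 2, zpow_add, zpow_mul, zpow_two, g2, one_zpow, mul_one]
  simp only [this] at a1 ⊢
  rcases Int.emod_two_eq_zero_or_one n with k | k <;> simp_all
theorem Nc.gen (h : Nc A) (hA : A ≤ bb K) (hn : A ≤ N_(X)) (hp : p.Prime) (p2 : p ≠ 2) (hX : IsPGroup p X)
    (k : ∀ a ∈ A, a ≠ 1 → X ⊓ C_[a] ≤ H) : X ≤ H := by
  have := abelian_iff.2 (le_cent_mono bb_ab hA hA)
  rw [← S0058.result A X (fun c => ?_) hn (pg_coprime_ne pr2 hp (pg_le bb_pg hA) hX p2.symm)]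
  · exact iSup₂_le fun a ha => k a ha.1 ha.2
  · obtain ⟨g, rfl⟩ := cyclic_iff.1 c
    obtain ⟨a, ha, b, hb, a1, b1, ab⟩ := h
    have e := fun a => mem2 (x := a) (hA (mem_zpowers g)).2.2
    exact ab ((e a ha a1).trans (e b hb b1).symm)

abbrev qq (p : ℕ) (K : Subgroup Γ) : Subgroup Γ := piCoreOf {p} K

/-- a maximal commutator subgroup over `E` that is not a 2-group -/
structure Kp (p r : ℕ) (G R K : Subgroup Γ) : Prop where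
  h : Hq p r G
  cR : Nat.card R = r
  lt : K < G
  cc : ⁅K, R⁆ = K
  q0 : ¬ qq p K ≤ C_(R)
  ex : ∃ E, Mx p r G R E ∧ E ≤ K
  mx : ∀ H < G, R ≤ N_(H) → K ≤ H → ⁅H, R⁆ = K

namespace Kp
variable (k : Kp p r G R K)
include k
theorem nK : R ≤ N_(K) := k.cc ▸ right_le_norm_comm K R
theorem le : K ≤ G := k.lt.le
theorem pq : IsPGroup p (qq p K) := pcore_pg k.h.pp K
theorem qG : qq p K ≤ G := (pcore_le _ _).trans k.le
theorem nq : R ≤ N_(qq p K) := norm_pcore _ k.nK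
theorem qne : qq p K ≠ ⊥ := fun e => k.q0 (e ▸ bot_le)
theorem dec (m : Mx p r G R E) (l : E ≤ K) : K = qq p K ⊔ E := by
  obtain ⟨Q, D, s, n, sD, lD, nD, e⟩ := k.h.two_of k.cR k.lt k.nK m.pg l m.nE
  rw [k.cc] at s n e
  rw [qq, s.eq_pcore ((le_norm K).trans n), ← m.max (sD.pg pr2) nD lD]
  exact e
theorem syl (m : Mx p r G R E) (l : E ≤ K) : IsSylowIn 2 E K := by
  refine isSylowIn_mk pr2 l m.pg fun d => ?_
  rw [k.dec m l, relIndex_sup' (l.trans (le_norm_pcore _ _))] at d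
  obtain ⟨n, hn⟩ := pg_card k.h.pp k.pq
  exact k.h.p2 ((Nat.prime_dvd_prime_iff_eq pr2 k.h.pp).1 (pr2.dvd_of_dvd_pow (hn ▸ d.trans (BG.relIndex_dvd_card _ _)))).symm
theorem u0 (hH : H < G) (hn : R ≤ N_(H)) (l : K ≤ H) : H ≤ N_(K) := k.mx H hH hn l ▸ left_le_norm_comm H R
theorem u1 (hq : q.Prime) (hX : IsPGroup q X) (hG : X ≤ G) (h0 : X ≠ ⊥) (h1 : R ≤ N_(X)) (h2 : K ≤ N_(X)) :
    G ⊓ N_(X) ≤ N_(K) :=
  k.u0 (k.h.lt_norm hG h0 hX hq) (norm_inf (k.h.nm R) (norm_norm h1)) (le_inf k.le h2)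
theorem ltH : G ⊓ N_(K) < G :=
  (inf_le_inf_left G (norm_le_norm_pcore _ K)).trans_lt (k.h.lt_norm k.qG k.qne k.pq k.h.pp)
theorem nH : R ≤ N_(G ⊓ N_(K)) := norm_inf (k.h.nm R) (norm_norm k.nK)
theorem cH : ⁅G ⊓ N_(K), R⁆ = K := k.mx _ k.ltH k.nH (le_inf k.le (le_norm K))
theorem cX (hX : X ≤ G) (hn : X ≤ N_(K)) : ⁅X, R⁆ ≤ K := (comm_mono (le_inf hX hn) le_rfl).trans k.cH.le
theorem cq (hX : X ≤ G) (hn : X ≤ N_(qq p K)) : X ≤ N_(K) :=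
  (le_inf hX hn).trans (k.u1 k.h.pp k.pq k.qG k.qne k.nq (le_norm_pcore _ _))
theorem noFa (a : Fa p r G R F) (c : qq p K ≤ C_(F)) : False := by
  have := le_inf (comm_le_left k.nq) (a.h2 k.qG c)
  rw [BG.inf_eq_bot_of_coprime (pg_coprime_ne k.h.pp pr2 k.pq a.pg k.h.p2), le_bot_iff, comm_eq_bot] at this
  exact k.q0 this
theorem nB : R ≤ N_(bb K) := fun _ h => nbb (k.nK h)
theorem bG : bb K ≤ G := bb_le.trans k.le
theorem bR : bb K ≤ C_(R) := by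
  by_contra c
  have l := comm_le_left k.nB
  exact k.noFa ⟨k.h, k.cR, pg_le bb_pg l, k.h.cc k.cR k.bG k.nB, fun e => c (comm_eq_bot.1 e), le_cent_mono bb_ab l l⟩
    (cent_symm (l.trans (bb_c.trans (cent_anti (pcore_le _ _)))))
theorem bE (m : Mx p r G R E) (l : E ≤ K) : bb K ≤ E :=
  (k.syl m l).le_of_norm_pg pr2 bb_pg bb_le fun _ h => nbb (le_norm K (l h))
theorem memb (m : Mx p r G R E) (l : E ≤ K) (h1 : b ∈ E) (h2 : b ∈ C_(qq p K)) (h3 : b ∈ C_(R)) : b ∈ bb K := by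
  obtain ⟨a1, -, -, a4⟩ := k.h.sp R E k.cR m.le m.pg m.cc
  exact ⟨l h1, by rw [k.dec m l]; exact le_cent_sup (zpowers_le.2 h2) (zpowers_le.2 (a1 ⟨h1, h3⟩)) (mem_zpowers b),
    pow_two b ▸ a4 b ⟨h1, h3⟩⟩
theorem ltC (hb : b ∈ G) (h1 : b ≠ 1) (h2 : b * b = 1) : G ⊓ C_[b] < G :=
  (inf_le_inf_left G (by rw [← cent_zpowers]; exact cent_le_norm _)).trans_lt
    (k.h.lt_norm (zpowers_le.2 hb) (zpowers_ne_bot h1) (pgz h2) pr2)
theorem cC (hb : b ∈ bb K) (h1 : b ≠ 1) : ⁅G ⊓ C_[b], R⁆ = K :=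
  k.mx _ (k.ltC (k.bG hb) h1 hb.2.2) (norm_inf (k.h.nm R) (norm_cent1 (le_cent1_iff.2 (k.bR hb))))
    (le_inf k.le (le_cent1_iff.2 hb.2.1))
theorem cb' (hb : b ∈ bb K) (h1 : b ≠ 1) (hX : X ≤ G) (hc : X ≤ C_[b]) : X ≤ N_(K) :=
  (le_inf hX hc).trans (k.cC hb h1 ▸ left_le_norm_comm _ R)
theorem cb (hb : b ∈ bb K) (h1 : b ≠ 1) (hg : g ∈ G) (hc : g * b = b * g) : g ∈ N_(K) :=
  k.cb' hb h1 (zpowers_le.2 hg) (zpowers_le.2 (mem_cent1.2 hc)) (mem_zpowers g)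
theorem odd (hA : Nc A) (l : A ≤ bb K) (hX : IsPGroup p X) (hG : X ≤ G) (hn : A ≤ N_(X)) : X ≤ N_(K) :=
  hA.gen l hn k.h.pp k.h.p2 hX fun _ ha a1 => k.cb' (l ha) a1 (inf_le_left.trans hG) inf_le_right
theorem cj (g : Γ) : Kp p r G (cj g R) (cj g K) := by
  have gG : ∀ g : Γ, BG.cj g G = G := fun g => cj_of_mem_norm (k.h.nm ⊤ (mem_top g))
  have lt : ∀ (g : Γ) {X : Subgroup Γ}, X < G → BG.cj g X < G := fun g X hX =>
    lt_of_le_of_ne (gG g ▸ cj_mono g hX.le) fun e => hX.ne (by rw [cj_eq_iff, gG] at e; exact e)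
  obtain ⟨E, m, l⟩ := k.ex
  refine ⟨k.h, by simpa using k.cR, lt g k.lt, by rw [← cj_comm, k.cc], fun c => k.q0 ?_, ⟨_, m.cj g, cj_mono g l⟩,
    fun H a b c => ?_⟩
  · rw [qq, pcore_cj, ← cj_cent] at c
    simpa using cj_mono g⁻¹ c
  · rw [← k.mx (BG.cj g⁻¹ H) (lt _ a) (by rw [← cj_norm]; exact cj_le_iff.1 b) (cj_le_iff.1 c), cj_comm]
    simp
theorem eq_of_le (k₁ : Kp p r G R K₁) (l : K₁ ≤ K) : K₁ = K := (k₁.mx K k.lt k.nK l).symm.trans k.cc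
theorem ti (k₁ : Kp p r G R₁ K₁) (hb : b ∈ bb K) (h : b ∈ bb K₁) (h1 : b ≠ 1) : K₁ = K := by
  have e : N_(zpowers b) ≤ C_[b] := fun g hg => mem_cent1.2 (mul_inv_eq_iff_eq_mul.1
    (mem2 hb.2.2 (conj_mem_of_norm hg (mem_zpowers b)) (by simpa using h1)))
  obtain ⟨g, hg, rfl⟩ := k.h.conjR (A := zpowers b) k.cR k₁.cR
    (le_norm_of_cent (by rw [cent_zpowers]; exact le_cent1_iff.2 (k.bR hb)))
    (le_norm_of_cent (by rw [cent_zpowers]; exact le_cent1_iff.2 (k₁.bR h)))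
  have gC : g ∈ G ⊓ C_[b] := ⟨hg.1, e hg.2⟩
  rw [← k₁.cC h h1, ← cj_of_mem gC, ← cj_comm, k.cC hb h1]
  exact cj_of_mem_norm (k.cb' hb h1 inf_le_left inf_le_right gC)
end Kp
end Cfsg.Agent.H06.HS
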