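import Cfsg.Agent.H06.HS5
set_option autoImplicit false
set_option linter.unusedSectionVars false
open Cfsg BG Subgroup
open scoped commutatorElement
universe u
namespace Cfsg.Agent.H06.HS
open Cfsg.Agent.H06.FV (PCl pr2 zz nz zc kc kc_le cm_mem cm_mem' z_kc nk cm1 kc_of fx ab_of_sq pgz inv_cm cm_cm)
variable {Γ : Type u} [Group Γ] [Finite Γ] {p r q : ℕ} {G R R₁ H K K₁ X E E₁ P D F F₁ C A U B : Subgroup Γ}
  {x y u t f g b e : Γ}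

structure Kx (p r : ℕ) (G R K : Subgroup Γ) : Prop extends Kp p r G R K where
  nc : Nc (bb K)

namespace Kx
variable (k : Kx p r G R K)
include k
theorem cj (g : Γ) : Kx p r G (cj g R) (cj g K) := ⟨k.toKp.cj g, bb_cj (K := K) g ▸ k.nc.cj g⟩
theorem cjN (hg : g ∈ N_(K)) : Kx p r G (BG.cj g R) K := by have := k.cj g; rwa [cj_of_mem_norm hg] at this
theorem cjC (hg : g ∈ C_(R)) : Kx p r G R (BG.cj g K) := by have := k.cj g; rwa [cj_of_mem_cent hg] at this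
theorem b0 : bb K ≠ ⊥ := let ⟨_, ha, _, _, a1, _⟩ := k.nc; ne_bot_of_mem ha a1
theorem uK (m : Mx p r G R E) (l : E ≤ K) (hH : H < G) (hn : R ≤ N_(H)) (hE : E ≤ H) : ⁅H, R⁆ ≤ K := by
  obtain ⟨Q, D, s, n, sD, lD, nD, e⟩ := k.h.two_of k.cR hH hn m.pg hE m.nE
  rw [m.max (sD.pg pr2) nD lD] at e
  have QG := s.le.trans (k.h.cG hH.le)
  rw [← k.h.cc k.cR hH.le hn]
  refine k.cX (k.h.cG hH.le) (e ▸ sup_le (k.odd k.nc le_rfl (s.pg k.h.pp) QG ?_) (l.trans (le_norm K)))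
  exact (k.bE m l).trans (hE.trans ((left_le_norm_comm H R).trans n))
theorem eqE (k₁ : Kx p r G R K₁) (m : Mx p r G R E) (l : E ≤ K) (l₁ : E ≤ K₁) : K₁ = K :=
  k.eq_of_le k₁.toKp (k₁.cc.ge.trans (k.uK m l k₁.lt k₁.nK l₁))
theorem dN (hD : IsSylowIn 2 D G) (nD : R ≤ N_(D)) (l : ⁅D, R⁆ ≤ K) : D ≤ N_(K) := fun d hd => by
  obtain ⟨e, he, t, ht, rfl⟩ := k.h.dec' k.cR hD.le nD hd
  refine mul_mem (le_norm K (l he)) (cj_eq_self_iff.1 (k.eqE (k.cjC ht.2) ⟨k.h, k.cR, D, hD, nD, rfl⟩ l ?_))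
  rw [← cj_of_mem_norm (left_le_norm_comm D R ht.1)]
  exact cj_mono t l
theorem sup2 (hX : IsPGroup 2 X) (h1 : X ≤ N_(K)) (h2 : R ≤ N_(X)) :
    ∃ D, IsSylowIn 2 D G ∧ R ≤ N_(D) ∧ X ≤ D ∧ D ≤ N_(K) ∧ ⁅D, R⁆ ≤ K := by
  obtain ⟨_, ⟨-, -, D₀, s₀, n₀, rfl⟩, l⟩ := k.ex
  obtain ⟨D, s, n, lD⟩ := coprime_sylow_superset pr2 (k.h.sol k.cR) k.nH (k.h.cop k.cR inf_le_left) hX
    (le_inf (k.h.two_le hX) h1) h2
  have s1 := s₀.sub (le_inf s₀.le (k.dN s₀ n₀ l)) inf_le_left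
  exact ⟨D, s₀.of_card_eq (s.le.trans inf_le_left) (s.card_eq s1), n, lD, s.le.trans inf_le_right,
    k.cX (s.le.trans inf_le_left) (s.le.trans inf_le_right)⟩
theorem nb (m : Mx p r G R E) (l : E ≤ K) : Nb p r G R E := ⟨m, fun ab => k.b0 (eq_bot_mono
  (Fa.cF ⟨k.h, k.cR, m.pg, m.cc, m.ne, ab⟩) (le_inf (k.bE m l) k.bR))⟩
theorem bz (m : Mx p r G R E) (l : E ≤ K) : bb K ≤ zz E := le_inf (k.bE m l) (bb_c.trans (cent_anti l))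
theorem syl2 (hX : IsPGroup 2 X) (h1 : X ≤ K) (h2 : ⁅X, R⁆ = X) : ∃ E, Mx p r G R E ∧ E ≤ K ∧ X ≤ E := by
  obtain ⟨D, s, n, l, -, l2⟩ := k.sup2 hX (h1.trans (le_norm K)) (h2 ▸ right_le_norm_comm _ _)
  exact ⟨_, ⟨k.h, k.cR, D, s, n, rfl⟩, l2, h2.ge.trans (comm_mono l le_rfl)⟩

theorem lemC (k₁ : Kx p r G R K₁) (hx : x ∈ bb K₁) (x1 : x ≠ 1) (xQ : x ∈ C_(qq p K)) : K₁ = K := by
  have xR := k₁.bR hx
  have xG := k₁.bG hx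
  obtain ⟨D, s, n, l, -, l2⟩ := k.sup2 (pgz hx.2.2) (k.cq (zpowers_le.2 xG) (zpowers_le.2 (cent_le_norm _ xQ)))
    (le_norm_of_cent (cent_symm (zpowers_le.2 xR)))
  have m : Mx p r G R ⁅D, R⁆ := ⟨k.h, k.cR, D, s, n, rfl⟩
  have xN : x ∈ N_(⁅D, R⁆) := left_le_norm_comm D R (l (mem_zpowers x))
  generalize ⁅D, R⁆ = E at m l2 xN
  have m' := k.nb m l2
  have rK : R ≤ N_(kc E x) := fun s hs => nk (m.nE hs) (mem_cent.1 xR s hs)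
  have key : ∀ Y ≤ kc E x, R ≤ N_(Y) → ⁅Y, R⁆ ≤ K₁ := fun Y hY nY => by
    have G0 := (hY.trans kc_le).trans m.le
    rw [← k.h.cc k.cR G0 nY, ← k₁.cC hx x1]
    exact comm_mono (le_inf (k.h.cG G0) (m'.tl xR hY)) le_rfl
  by_cases c : E ≤ kc E x
  · exact k.eqE k₁ m l2 (m.cc.ge.trans (key E c m.nE))
  obtain ⟨e, he, e0⟩ := SetLike.not_le_iff_exists.1 c
  have nY : R ≤ N_(kc E x ⊓ C_(qq p K)) := norm_inf rK (norm_cent k.nq)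
  have lF := comm_le_left nY
  have w : ⁅e, x⁆ ∈ kc E x ⊓ C_(qq p K) := by
    refine ⟨⟨cm_mem xN he, ?_⟩, cm_mem' (norm_cent (le_norm_pcore _ K) (l2 he)) xQ⟩
    have : ⁅⁅e, x⁆, x⁆ = ⁅e, x⁆ * (x * ⁅e, x⁆ * x⁻¹)⁻¹ := by simp only [commutatorElement_def]; group
    rw [this, inv_cm hx.2.2, inv_inv]
    exact m'.sqz (cm_mem xN he)
  have FE := lF.trans (inf_le_left.trans kc_le)
  have cF := k.h.cc k.cR ((inf_le_left.trans kc_le).trans m.le) nY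
  have F0 : ⁅kc E x ⊓ C_(qq p K), R⁆ ≠ ⊥ := fun h => e0 ⟨he, m'.zof (cm_mem xN he) (comm_eq_bot.1 h w)⟩
  have F1 := key _ inf_le_left nY
  have FQ := lF.trans inf_le_right
  generalize ⁅kc E x ⊓ C_(qq p K), R⁆ = F at FE cF F0 F1 FQ
  by_cases ab : F ≤ C_(F)
  · exact (k.noFa ⟨k.h, k.cR, pg_le m.pg FE, cF, F0, ab⟩ (cent_symm FQ)).elim
  rw [le_cent_iff] at ab
  push Not at ab
  obtain ⟨u, hu, v, hv, ab⟩ := ab
  obtain ⟨E₁, m₁, l₁, l₂⟩ := k₁.syl2 (pg_le m.pg FE) F1 cF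
  have z := m'.cz (FE hu) (FE hv)
  have zb := k.memb m l2 z.1 (FQ (der_le F (commutator_mem_commutator hu hv))) (m'.zR z)
  have := k.cb' zb (mt cm1.1 ab) m₁.le (le_cent1_iff.2 ((k₁.nb m₁ l₁).cz (l₂ hu) (l₂ hv)).2)
  exact k.eqE k₁ m₁ (m₁.cc.ge.trans (k.cX m₁.le this)) l₁

theorem fixb (hx : x ∈ N_(K)) (h2 : x * x = 1) : ∃ y ∈ bb K, y ≠ 1 ∧ y * x = x * y := by
  obtain ⟨y, hy, y1⟩ := exists_mem_ne_one (pg_fix_ne_bot pr2 (pgz h2) bb_pg (zpowers_le.2 (nbb hx)) k.b0)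
  exact ⟨y, hy.1, y1, (mem_cent.1 hy.2 x (mem_zpowers x)).symm⟩

theorem a1 (k₁ : Kx p r G R₁ K₁) (h : Nc (bb K₁ ⊓ N_(K))) : qq p K ≤ C_(bb K₁) := by
  by_cases ne : K₁ = K
  · exact ne ▸ cent_symm (bb_c.trans (cent_anti (pcore_le _ _)))
  have n1 : bb K₁ ⊓ N_(K) ≤ N_(qq p K) := inf_le_right.trans (norm_le_norm_pcore _ _)
  have l := k₁.odd h inf_le_left k.pq k.qG n1
  have nB : qq p K ≤ N_(bb K₁) := fun _ h => nbb (l h)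
  have cop := pg_coprime_ne k.h.pp pr2 k.pq (bb_pg (K := K₁)) k.h.p2
  have c : bb K₁ ⊓ N_(K) ≤ C_(qq p K) := comm_eq_bot.1 (eq_bot_mono (BG.inf_eq_bot_of_coprime cop)
    (le_inf (comm_le_right n1) ((comm_mono inf_le_left le_rfl).trans (comm_le_left nB))))
  obtain ⟨x, hx, -, -, x1, -⟩ := h
  obtain ⟨y, hy, y1, e⟩ := k.fixb hx.2 hx.1.2.2
  have yN := k₁.cb hx.1 x1 (k.bG hy) e
  have yQ : y ∈ C_(qq p K) := cent_anti (pcore_le _ _) hy.2.1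
  have d := (coprime_abelian_dprod nB cop (abelian_iff.2 bb_ab)).disj
  refine cent_symm (comm_eq_bot.1 (by_contra fun h0 => ?_))
  have lB := comm_le_left nB
  obtain ⟨w, hw, w1⟩ := exists_mem_ne_one (pg_fix_ne_bot pr2 (pgz hy.2.2) (pg_le bb_pg lB)
    (norm_comm (zpowers_le.2 (nbb yN)) (zpowers_le.2 (cent_le_norm _ yQ))) h0)
  have wB := lB hw.1
  exact w1 (eq_one_of_mem_of_disj d ⟨wB, c ⟨wB, k.cb hy y1 (k₁.bG wB) (mem_cent.1 hw.2 y (mem_zpowers y)).symm⟩⟩ hw.1)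

theorem lemC' (k₁ : Kx p r G R K₁) (h : bb K₁ ≤ N_(K)) : K₁ = K :=
  let ⟨_, hx, _, _, x1, _⟩ := k₁.nc
  k.lemC k₁ hx x1 (cent_symm (k.a1 k₁ (k₁.nc.mono (le_inf le_rfl h))) hx)

theorem lemN (hH : H < G) (hn : R ≤ N_(H)) (hB : bb K ≤ H) : ⁅H, R⁆ ≤ N_(K) := by
  obtain ⟨Q, D, s, n, sD, lD, nD, e⟩ := k.h.two_of k.cR hH hn bb_pg hB k.nB
  refine e ▸ sup_le (k.odd k.nc le_rfl (s.pg k.h.pp) (s.le.trans (k.h.cG hH.le))
    (hB.trans ((left_le_norm_comm H R).trans n))) ((comm_le_left nD).trans ?_)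
  obtain ⟨D', s', n', l'⟩ := coprime_sylow_superset pr2 (k.h.sol k.cR) (k.h.nm R) (k.h.cop k.cR le_rfl) (sD.pg pr2)
    (sD.le.trans hH.le) nD
  obtain ⟨D₀, s₀, n₀, -, l₀, -⟩ := k.sup2 pg_bot bot_le le_norm_bot
  obtain ⟨c, hc, rfl⟩ := coprime_sylow_trans pr2 (k.h.sol k.cR) (k.h.nm R) (k.h.cop k.cR le_rfl) s₀ s' n₀ n'
  have := k.lemC' (k.cjC (inv_mem hc.2)) (by rw [bb_cj, cj_le_iff, inv_inv]; exact (lD.trans l').trans (cj_mono c l₀))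
  exact l'.trans (cj_le_of_mem_norm l₀ (le_norm _ (by simpa using inv_mem (cj_eq_self_iff.1 this))))

theorem nW (hX : IsPGroup p X) (hG : X ≤ G) (h1 : X ≤ N_(K)) (h2 : qq p K ≤ X) : ∃ g ∈ N_(K), BG.cj g R ≤ N_(X) := by
  obtain ⟨S, s, n⟩ := coprime_sylow_exists k.h.pp (k.h.sol k.cR) k.nH (k.h.cop k.cR inf_le_left)
  obtain ⟨g, hg, l⟩ := sylow_subJ k.h.pp s hX (le_inf hG h1)
  obtain ⟨Q, sQ, nQ, c⟩ := k.h.op k.cR k.ltH k.nH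
  rw [k.cH] at sQ nQ
  refine ⟨g, hg.2, le_norm_of_comm_le (((comm_mono l le_rfl).trans ?_).trans h2)⟩
  rw [← cj_comm]
  exact cj_le_of_mem_norm ((c S (s.pg k.h.pp) s.le n).trans (sQ.eq_pcore ((le_norm K).trans nQ)).ge)
    (norm_le_norm_pcore _ _ hg.2)

theorem caseA (k₁ : Kx p r G R₁ K₁) (h : Nc (bb K₁ ⊓ N_(K))) (h' : Nc (bb K ⊓ N_(K₁))) : K₁ = K := by
  have c := k.a1 k₁ h
  have c' := k₁.a1 k h'
  have l : qq p K ≤ N_(K₁) := let ⟨_, hx, _, _, x1, _⟩ := k₁.nc; k₁.cb' hx x1 k.qG (c.trans (cent_le_cent1 hx))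
  have l' : qq p K₁ ≤ N_(K) := let ⟨_, hx, _, _, x1, _⟩ := k.nc; k.cb' hx x1 k₁.qG (c'.trans (cent_le_cent1 hx))
  have pW := pg_sup k.pq k₁.pq (l'.trans (norm_le_norm_pcore _ _))
  have WG := sup_le k.qG k₁.qG
  have WB : bb K ≤ C_(qq p K ⊔ qq p K₁) := le_cent_sup (bb_c.trans (cent_anti (pcore_le _ _))) (cent_symm c')
  obtain ⟨g, hg, n⟩ := k.nW pW WG (sup_le ((pcore_le _ _).trans (le_norm K)) l') le_sup_left
  obtain ⟨g₁, hg₁, n₁⟩ := k₁.nW pW WG (sup_le l ((pcore_le _ _).trans (le_norm K₁))) le_sup_right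
  have k' := k.cjN hg
  have k₁' := k₁.cjN hg₁
  have W0 := ne_bot_mono k.qne (le_sup_left (b := qq p K₁))
  have lq : qq p K ≤ qq p K ⊔ qq p K₁ := le_sup_left
  generalize qq p K ⊔ qq p K₁ = W at *
  generalize BG.cj g R = R' at *
  obtain ⟨a, ha, e⟩ := k.h.conjR k'.cR k₁'.cR n n₁
  have nH : R' ≤ N_(G ⊓ N_(W)) := norm_inf (k.h.nm _) (norm_norm n)
  obtain ⟨u, hu, t, ht, rfl⟩ := k.h.dec' k'.cR inf_le_left nH ha
  have uN := k'.lemN (k.h.lt_norm WG W0 pW k.h.pp) nH (le_inf k.bG (WB.trans (cent_le_norm _))) hu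
  have tB : BG.cj t (bb K) ≤ C_(qq p K) :=
    (cj_le_of_mem_norm WB (norm_le_norm_cent _ ht.1.2)).trans (cent_anti lq)
  have tN := k'.lemC' (k'.cjC ht.2) (by
    rw [bb_cj]
    exact k.cq (cj_le_of_mem_norm k.bG (k.h.nm ⊤ (mem_top t))) (tB.trans (cent_le_norm _)))
  have := k'.cjN (mul_mem uN (cj_eq_self_iff.1 tN))
  rw [← e] at this
  exact this.lemC' k₁' (k.cq k₁.bG ((cent_symm c).trans (cent_le_norm _)))
end Kx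
end Cfsg.Agent.H06.HS
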