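import Cfsg.Agent.H06.PT1
import Cfsg.Agent.S2979
import Cfsg.Agent.H26.Bk21
import Cfsg.Agent.H16.PrimPair
import Cfsg.Agent.H17.OddSolv
import Cfsg.Agent.H03.Qd
import Cfsg.Agent.H22.SigLemH
set_option autoImplicit false
open Cfsg BG Subgroup
open scoped commutatorElement
universe u
namespace Cfsg.Agent.H06.PT

theorem not_odd_of {G X : Type*} [Group G] [Group X] {H E : Subgroup G} (φ : E →* X) (x : E) (hx : (x : G) ∈ H)
    (h : orderOf (φ x) = 2) : ¬ Odd (Nat.card H) := by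
  rw [Nat.not_odd_iff_even, even_iff_two_dvd, ← h]
  exact (orderOf_map_dvd φ x).trans ((Subgroup.orderOf_coe x) ▸ orderOf_dvd_card hx)

theorem neg_one_comm : (-1 : Matrix.SpecialLinearGroup (Fin 2) (ZMod 3)) ∈
    _root_.commutator (Matrix.SpecialLinearGroup (Fin 2) (ZMod 3)) := by
  let i : Matrix.SpecialLinearGroup (Fin 2) (ZMod 3) := ⟨!![0, -1; 1, 0], by decide⟩
  let j : Matrix.SpecialLinearGroup (Fin 2) (ZMod 3) := ⟨!![1, 1; 1, -1], by decide⟩
  have : (-1 : Matrix.SpecialLinearGroup (Fin 2) (ZMod 3)) = ⁅i, j⁆ := by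
    rw [commutatorElement_def, eq_mul_inv_iff_mul_eq, eq_mul_inv_iff_mul_eq]
    decide
  rw [this]
  exact commutator_mem_commutator (mem_top _) (mem_top _)

theorem ord_neg {F : Type*} [CommRing F] (h : (-1 : F) ≠ 1) : orderOf (-1 : Matrix.SpecialLinearGroup (Fin 2) F) = 2 := by
  haveI : Fact (Nat.Prime 2) := ⟨Nat.prime_two⟩
  refine orderOf_eq_prime (by simp) fun he => h ?_
  simpa using congrArg (fun M : Matrix.SpecialLinearGroup (Fin 2) F => M 0 0) he

theorem oddB : OddB.{u} := by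
  intro G _ _ P hC hev hodd hch
  have p3 := Nat.prime_three
  haveI : Fact (Nat.Prime 3) := ⟨p3⟩
  have hP := isSylowIn_top p3 P
  have pQ : IsPGroup 3 (pCore 3 G) := H02.pCore_isPGroup 3 G
  have nQ : (⊤ : Subgroup G) ≤ N_(pCore 3 G) := (normalizer_eq_top _).ge
  have QT : pCore 3 G ≤ (P : Subgroup G) := hP.le_of_norm_pg p3 pQ le_top (le_top.trans nQ)
  have T0 : (P : Subgroup G) ≠ ⊥ := fun h0 => by
    have h1 : pCore 3 G = ⊥ := eq_bot_mono h0 QT
    rw [h1] at hC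
    have h2 : (⊤ : Subgroup G) = ⊥ := eq_bot_iff.2 (le_cent_bot.trans hC)
    rw [← card_top, h2, card_bot] at hev
    exact absurd hev (by decide)
  have hN : ∀ K : Subgroup G, K ≤ P → K ≠ ⊥ → (K.subgroupOf P).Characteristic → (P : Subgroup G) ≤ N_(K) ∧ N_(K) ≠ ⊤ := by
    intro K h1 h2 h3
    refine ⟨(normal_subgroupOf_iff_le_normalizer h1).1 inferInstance, fun h4 => hch _ h3 ?_ ?_⟩
    · exact fun h5 => h2 (by rw [← inf_eq_left.2 h1]; exact (subgroupOf_eq_bot.1 h5).eq_bot)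
    · rw [map_subgroupOf_eq_of_le h1]; exact normalizer_eq_top_iff.1 h4
  have hW : ∀ H : Subgroup G, (P : Subgroup G) ≤ H → H ≠ ⊤ → H ≤ N_(centerThompsonOf 3 (P : Subgroup G)) := by
    intro H h1 h2
    have h3 : pCore 3 G ≤ piCoreOf {3} H := le_pcore_pg p3 pQ (QT.trans h1) (le_top.trans nQ)
    obtain ⟨S, hS⟩ := BG.IsSylowIn.exists_sylow (hP.sub h1 le_top) p3
    have h4 := H17.centerThompsonOf_normal (by norm_num) (Or.inr rfl)
      ((H16.chp_iff p3).2 (inf_le_right.trans ((cent_anti h3).trans (hC.trans h3))))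
      (H17.weaklyStable_of_odd (by norm_num) (hodd H h1 h2)) S
    rw [← hS, H17.centerThompsonOf_map _ H.subtype_injective.injOn]
    refine le_norm_iff.2 ?_
    rintro g hg _ ⟨x, hx, rfl⟩
    exact ⟨_, h4.conj_mem x hx ⟨g, hg⟩, rfl⟩
  have hM : N_(centerThompsonOf 3 (P : Subgroup G)) ≠ ⊤ := fun h4 => by
    refine hch _ (H03.characteristic_zj_top 3) (fun h5 => H22.zj_ne_bot p3 P.isPGroup' T0 ?_) ?_
    · rw [← H03.map_zj_top, h5, Subgroup.map_bot]
    · rw [H03.map_zj_top]; exact normalizer_eq_top_iff.1 h4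
  have oz : omegaOneCenter 3 (P : Subgroup G) ≤ (P : Subgroup G) ⊓ C_((P : Subgroup G)) := H17.omegaOne_le _ _
  have PC : (P : Subgroup G) ≤ cStarOf 3 (P : Subgroup G) := le_sup_of_le_left (cent_symm (oz.trans inf_le_right))
  have CM : cStarOf 3 (P : Subgroup G) ≤ N_(centerThompsonOf 3 (P : Subgroup G)) := by
    refine sup_le ?_ (iSup_le fun C => ?_)
    · have := hN _ (oz.trans inf_le_left) (omega_center_ne_bot p3 P.isPGroup' T0) (H26.oz_char _)
      exact (cent_le_norm _).trans (hW _ this.1 this.2)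
    · have := hN C (C.2.1.trans (H26.bm_le _)) C.2.2.1 (H26.char_trans C.2.1 (H26.bm_le _) C.2.2.2 (H26.bm_char _))
      exact hW _ this.1 this.2
  have hne : cStarOf 3 (P : Subgroup G) ≠ ⊤ := fun h => hM (top_le_iff.1 (h ▸ CM))
  have ho := hodd _ PC hne
  obtain ⟨𝓑, -, b2, b3, b4, -, -, b7⟩ := Cfsg.Agent.S2979.result hC P hne
  obtain ⟨E, hE⟩ : ∃ E, E ∈ 𝓑 := by
    by_contra hn
    push Not at hn
    rw [Set.eq_empty_of_forall_notMem hn, sSup_empty, sup_bot_eq] at b4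
    exact hne b4
  rcases b7 E hE with ⟨F, _, _, m, hm, hF, ⟨e⟩, h1⟩ | ⟨h1, -⟩ | ⟨-, ⟨e⟩, h1⟩
  · have c3 : (3 : F) = 0 := by
      have := FiniteField.cast_card_eq_zero F
      rw [hF] at this
      exact eq_zero_of_pow_eq_zero (n := m) (by exact_mod_cast this)
    have c2 : (-1 : F) ≠ 1 := fun h => one_ne_zero (α := F) (by linear_combination c3 + h)
    obtain ⟨x, hx⟩ := QuotientGroup.mk'_surjective (pCore 3 E) (e.symm (-1))
    have n1 : sSup 𝓑 ≤ N_(E) := sSup_le fun E' hE' => by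
      by_cases h : E' = E
      · rw [h]; exact le_norm _
      · exact le_norm_of_cent (comm_eq_bot.1 (b3 E' hE' E hE h))
    have n2 : (⊤ : Subgroup G) ≤ N_(sSup 𝓑) := le_norm_of_cj_le fun g _ => by
      rw [cj_le_iff]
      refine sSup_le fun Y hY => ?_
      rw [← cj_le_iff]
      exact le_sSup (b2 Y hY g)
    have o1 : piCoreOf {3} E ≤ (P : Subgroup G) :=
      ((pcore_le_of_norm _ (le_sSup hE) n1).trans (pcore_le_of_norm _ le_top n2)).trans hP.pcore_le
    rw [H02.piCoreOf_singleton p3, H02.pCoreOf_eq] at o1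
    refine not_odd_of (e.toMonoidHom.comp (QuotientGroup.mk' (pCore 3 E))) x (H := cStarOf 3 (P : Subgroup G)) ?_ ?_ ho
    · refine (h1.ge ⟨x.2, mem_norm_of_cj_le ?_⟩).1
      intro y hy
      obtain ⟨z, hz, rfl⟩ := mem_cj'.1 hy
      refine mem_inf.2 ⟨?_, E.mul_mem (E.mul_mem x.2 hz.2) (E.inv_mem x.2)⟩
      have h2 : x * ⟨z, hz.2⟩ * x⁻¹ * (⟨z, hz.2⟩ : E)⁻¹ ∈ pCore 3 E := by
        rw [← QuotientGroup.eq_one_iff, ← QuotientGroup.mk'_apply, ← e.map_eq_one_iff]
        simp only [map_mul, map_inv, hx, MulEquiv.apply_symm_apply]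
        simp
      simpa using mul_mem (o1 ⟨_, h2, rfl⟩) hz.1
    · simp only [MonoidHom.comp_apply, hx]
      simpa using ord_neg c2
  · exact absurd h1 (by norm_num)
  · have hz : e.symm ⟨-1, neg_one_comm⟩ ∈ center (E ⧸ pCore 3 E) := by
      rw [mem_center_iff]
      intro g
      apply e.injective
      simp only [map_mul, MulEquiv.apply_symm_apply]
      exact Subtype.ext (by simp)
    rw [← h1] at hz
    obtain ⟨x, hx, hx2⟩ := hz
    refine not_odd_of ((_root_.commutator _).subtype.comp (e.toMonoidHom.comp (QuotientGroup.mk' (pCore 3 E)))) x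
      (H := cStarOf 3 (P : Subgroup G)) hx.1 ?_ ho
    simp only [MonoidHom.comp_apply, hx2]
    simpa using ord_neg (F := ZMod 3) (by decide)

end Cfsg.Agent.H06.PT
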